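import Groth.Agent.EquidimChart.UnivOpen
import Groth.Agent.DimFormula.Basic

/-!
The dimension inequality on irreducible schemes.
-/

set_option autoImplicit false
set_option linter.style.haveILetI false
set_option backward.isDefEq.respectTransparency.types false

universe u

open CategoryTheory CategoryTheory.Limits AlgebraicGeometry TopologicalSpace Groth.Agent.DimTheory

namespace Groth.Agent.EquidimChart

theorem height_quotient_of_le_all {A : Type u} [CommRing A] (P0 P : Ideal A) [P.IsPrime]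
    (h : ∀ Q : Ideal A, Q.IsPrime → P0 ≤ Q) : (P.map (Ideal.Quotient.mk P0)).height = P.height := by
  haveI : (P.map (Ideal.Quotient.mk P0)).IsPrime :=
    Ideal.map_isPrime_of_surjective Ideal.Quotient.mk_surjective (by rw [Ideal.mk_ker]; exact h P inferInstance)
  have hc : ∀ Q : PrimeSpectrum A, (Q.asIdeal.map (Ideal.Quotient.mk P0)).comap (Ideal.Quotient.mk P0) = Q.asIdeal :=
    fun Q => by
      rw [Ideal.comap_map_of_surjective _ Ideal.Quotient.mk_surjective, ← RingHom.ker_eq_comap_bot, Ideal.mk_ker,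
        sup_of_le_left (h _ Q.isPrime)]
  let up : PrimeSpectrum A → PrimeSpectrum (A ⧸ P0) := fun Q => ⟨Q.asIdeal.map (Ideal.Quotient.mk P0),
    Ideal.map_isPrime_of_surjective Ideal.Quotient.mk_surjective (by rw [Ideal.mk_ker]; exact h _ Q.isPrime)⟩
  have hup : StrictMono up := fun a b hab => by
    show (up a).asIdeal < (up b).asIdeal
    refine lt_of_le_of_ne (Ideal.map_mono hab.le) fun he => hab.ne (PrimeSpectrum.ext ?_)
    rw [← hc a, ← hc b]
    exact congrArg _ he
  have hdown : StrictMono (PrimeSpectrum.comap (Ideal.Quotient.mk P0)) :=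
    RingHom.strictMono_comap_of_surjective Ideal.Quotient.mk_surjective
  rw [(up ⟨P, inferInstance⟩).height_eq_orderHeight, (⟨P, inferInstance⟩ : PrimeSpectrum A).height_eq_orderHeight]
  refine le_antisymm ?_ (Order.height_le_height_apply_of_strictMono up hup _)
  refine (Order.height_le_height_apply_of_strictMono _ hdown _).trans_eq (congrArg Order.height ?_)
  exact PrimeSpectrum.ext (hc ⟨P, inferInstance⟩)

variable {X Y : Scheme.{u}}

theorem height_primeIdealOf {U : X.Opens} (hU : IsAffineOpen U) {z : X} (hz : z ∈ U) :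
    ((hU.primeIdealOf ⟨z, hz⟩).asIdeal.height : WithBot ℕ∞) = ringKrullDim (X.presheaf.stalk z) := by
  letI := TopCat.Presheaf.algebra_section_stalk X.presheaf (⟨z, hz⟩ : U)
  haveI : IsLocalization.AtPrime (X.presheaf.stalk z) (hU.primeIdealOf ⟨z, hz⟩).asIdeal := hU.isLocalization_stalk ⟨z, hz⟩
  exact (IsLocalization.AtPrime.ringKrullDim_eq_height (hU.primeIdealOf ⟨z, hz⟩).asIdeal (X.presheaf.stalk z)).symm

/-- the dimension inequality -/
theorem dim_stalk_add_trdeg_le [IsLocallyNoetherian Y] [IrreducibleSpace X] [IrreducibleSpace Y] (f : X ⟶ Y)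
    [LocallyOfFiniteType f] (hd : f (genericPoint X) = genericPoint Y) (x : X) :
    ∃ h h' t e : ℕ, ringKrullDim (X.presheaf.stalk x) = (h : WithBot ℕ∞) ∧
      ringKrullDim (Y.presheaf.stalk (f x)) = (h' : WithBot ℕ∞) ∧
      mapTrdeg f x = t ∧ mapTrdeg f (genericPoint X) = e ∧ h + t ≤ h' + e := by
  obtain ⟨V, hV, hxV, -⟩ := exists_isAffineOpen_mem_and_subset (X := Y) (x := f x) (U := ⊤) trivial
  obtain ⟨U, hU, hxU, hle'⟩ := exists_isAffineOpen_mem_and_subset (X := X) (x := x) (U := f ⁻¹ᵁ V) hxV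
  have hle : U ≤ f ⁻¹ᵁ V := hle'
  have hgU : genericPoint X ∈ U := (genericPoint_specializes x).mem_open U.isOpen hxU
  letI := (f.appLE V U hle).hom.toAlgebra
  haveI : IsNoetherianRing Γ(Y, V) := IsLocallyNoetherian.component_noetherian ⟨V, hV⟩
  haveI : Algebra.FiniteType Γ(Y, V) Γ(X, U) := f.finiteType_appLE hV hU hle
  let P := (hU.primeIdealOf ⟨x, hxU⟩).asIdeal
  let P0 := (hU.primeIdealOf ⟨genericPoint X, hgU⟩).asIdeal
  let p := (hV.primeIdealOf ⟨f x, hle hxU⟩).asIdeal
  let p0 := (hV.primeIdealOf ⟨f (genericPoint X), hle hgU⟩).asIdeal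
  have hlo : ∀ (z : X) (hz : z ∈ U), (hU.primeIdealOf ⟨z, hz⟩).asIdeal.LiesOver (hV.primeIdealOf ⟨f z, hle hz⟩).asIdeal :=
    fun z hz => ⟨(congrArg PrimeSpectrum.asIdeal (IsAffineOpen.comap_primeIdealOf_appLE (f := f) V hV U hU hle hz)).symm⟩
  haveI : P.LiesOver p := hlo x hxU
  haveI : P0.LiesOver p0 := hlo _ hgU
  have hP0 : ∀ Q : Ideal Γ(X, U), Q.IsPrime → P0 ≤ Q := fun Q hQ => by
    obtain ⟨z, hz, hzQ⟩ := FlatEquidim.exists_point hU ⟨Q, hQ⟩
    have := (FlatEquidim.specializes_iff_le hU hz hgU).1 (genericPoint_specializes z)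
    rwa [hzQ] at this
  have hp0 : ∀ q : Ideal Γ(Y, V), q.IsPrime → p0 ≤ q := fun q hq => by
    obtain ⟨z, hz, hzq⟩ := FlatEquidim.exists_point hV ⟨q, hq⟩
    have := (FlatEquidim.specializes_iff_le hV hz (hle hgU)).1 (hd ▸ genericPoint_specializes z)
    rwa [hzq] at this
  let A := Γ(Y, V) ⧸ p0
  let B := Γ(X, U) ⧸ P0
  haveI : FaithfulSMul A B := (faithfulSMul_iff_algebraMap_injective _ _).2 ((injective_iff_map_eq_zero _).2 fun a ha => by
    obtain ⟨a, rfl⟩ := Ideal.Quotient.mk_surjective a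
    rw [Ideal.Quotient.eq_zero_iff_mem, P0.over_def p0, Ideal.mem_comap]
    exact Ideal.Quotient.eq_zero_iff_mem.1 ha)
  haveI : Algebra.FiniteType A B := Algebra.FiniteType.of_restrictScalars_finiteType Γ(Y, V) A B
  haveI : (p.map (Ideal.Quotient.mk p0)).IsPrime :=
    Ideal.map_isPrime_of_surjective Ideal.Quotient.mk_surjective (by rw [Ideal.mk_ker]; exact hp0 p inferInstance)
  haveI : (P.map (Ideal.Quotient.mk P0)).IsPrime :=
    Ideal.map_isPrime_of_surjective Ideal.Quotient.mk_surjective (by rw [Ideal.mk_ker]; exact hP0 P inferInstance)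
  haveI : (P.map (Ideal.Quotient.mk P0)).LiesOver (p.map (Ideal.Quotient.mk p0)) := by
    refine ⟨Ideal.ext fun a => ?_⟩
    obtain ⟨a, rfl⟩ := Ideal.Quotient.mk_surjective a
    rw [Ideal.mem_comap, Ideal.mem_quotient_iff_mem (hp0 p inferInstance), P.over_def p, Ideal.mem_comap]
    exact (Ideal.mem_quotient_iff_mem (hP0 P inferInstance)).symm
  obtain ⟨h, h', t, e, hh, hh', ht, he, hsum⟩ := DimFormula.dimIneq (A := A) B (p.map (Ideal.Quotient.mk p0)) (P.map (Ideal.Quotient.mk P0))
  rw [height_quotient_of_le_all P0 P hP0] at hh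
  rw [height_quotient_of_le_all p0 p hp0] at hh'
  refine ⟨h, h', t, e, ?_, ?_, ?_, ?_, hsum⟩
  · rw [← height_primeIdealOf hU hxU, hh]; rfl
  · rw [← height_primeIdealOf hV (hle hxU), hh']; rfl
  · rw [← ht]
    letI : Algebra A (Y.residueField (f x)) := (Ideal.Quotient.lift p0 (Y.presheaf.germ V (f x) (hle hxU) ≫ Y.residue (f x)).hom
      (fun a ha => RingHom.mem_ker.1 ((ker_evaluation hV (hle hxU)).ge (hp0 p inferInstance ha)))).toAlgebra
    letI : Algebra B (X.residueField x) := (Ideal.Quotient.lift P0 (X.presheaf.germ U x hxU ≫ X.residue x).hom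
      (fun a ha => RingHom.mem_ker.1 ((ker_evaluation hU hxU).ge (hP0 P inferInstance ha)))).toAlgebra
    letI : Algebra (Y.residueField (f x)) (X.residueField x) := (f.residueFieldMap x).hom.toAlgebra
    refine trdeg_quot (K := Y.residueField (f x)) (L := X.residueField x) ?_ ?_ ?_ _ _ ?_
    · intro r
      obtain ⟨r, rfl⟩ := Ideal.Quotient.mk_surjective r
      exact FlatEquidim.evaluation_comp f hle hxU r
    · intro z
      obtain ⟨a, b, hab⟩ := exists_eq_div hV (hle hxU) z
      exact ⟨Ideal.Quotient.mk p0 a, Ideal.Quotient.mk p0 b, hab⟩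
    · intro z
      obtain ⟨a, b, hab⟩ := exists_eq_div hU hxU z
      exact ⟨Ideal.Quotient.mk P0 a, Ideal.Quotient.mk P0 b, hab⟩
    · ext z
      obtain ⟨z, rfl⟩ := Ideal.Quotient.mk_surjective z
      rw [Ideal.mem_quotient_iff_mem (hP0 P inferInstance)]
      exact SetLike.ext_iff.1 (ker_evaluation hU hxU) z
  · rw [mapTrdeg_eq_trdeg f hV hU hle hgU p0, ← he]

theorem apply_genericPoint_of_dominant [IrreducibleSpace X] [IrreducibleSpace Y] (f : X ⟶ Y) [IsDominant f] :
    f (genericPoint X) = genericPoint Y := by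
  refine FlatDim.eq_genericPoint fun w hw => ?_
  have h1 : Set.range f ⊆ closure {f (genericPoint X)} := by
    rintro _ ⟨a, rfl⟩
    exact specializes_iff_mem_closure.1 ((genericPoint_specializes a).map f.continuous)
  exact (hw.antisymm (specializes_iff_mem_closure.2 (closure_minimal h1 isClosed_closure (f.denseRange w)))).eq

theorem dim_fiber_generic [IrreducibleSpace X] (f : X ⟶ Y) [LocallyOfFiniteType f] {η : Y}
    (hd : f (genericPoint X) = η) {e : ℕ} (he : mapTrdeg f (genericPoint X) = e) :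
    topologicalKrullDim ↥(f.fiber η) = (e : WithBot ℕ∞) := by
  haveI : LocallyOfFiniteType (f.fiberToSpecResidueField η) := MorphismProperty.pullback_snd _ _ ‹_›
  rw [topologicalKrullDim_eq_iSup_height]
  refine le_antisymm (iSup_le fun w => ?_) ?_
  · obtain ⟨n, hn, hn'⟩ := exists_height_eq (k := Y.residueField η) (f.fiberToSpecResidueField η) w
    rw [FlatEquidim.resTrdeg_fiber_eq] at hn
    rw [hn']
    exact_mod_cast trdeg_mono f (genericPoint_specializes (f.fiberι η w))
      (hd.trans (FlatEquidim.fiberι_apply_eq f η w).symm) hn he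
  · obtain ⟨w, hw⟩ : genericPoint X ∈ Set.range (f.fiberι η) := by rw [f.range_fiberι]; exact hd
    obtain ⟨n, hn, hn'⟩ := exists_height_eq (k := Y.residueField η) (f.fiberToSpecResidueField η) w
    rw [FlatEquidim.resTrdeg_fiber_eq, hw, he] at hn
    refine le_iSup_of_le w ?_
    rw [hn', Nat.cast_injective (R := Cardinal.{u}) hn]
    rfl

end Groth.Agent.EquidimChart
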