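import Groth.Agent.EquidimChart.Crit
import Groth.Agent.FlatMorLib.FiberPoints

/-!
Quasi-finite dominant subschemes through a closed point of a fibre.
-/

set_option autoImplicit false
set_option linter.style.haveILetI false
set_option backward.isDefEq.respectTransparency.types false

universe u

open CategoryTheory CategoryTheory.Limits AlgebraicGeometry TopologicalSpace Groth.Agent.DimTheory

namespace Groth.Agent.EquidimChart

variable {X Y : Scheme.{u}}

theorem height_asFiber_eq_zero_of_closed (f : X ⟶ Y) {x : X}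
    (hcl : ∀ x' : X, f x' = f x → x ⤳ x' → x' = x) : Order.height (f.asFiber x) = 0 := by
  refine Order.height_eq_zero.2 fun w hw => ?_
  have h1 := (show f.asFiber x ⤳ w from hw).map (f.fiberι (f x)).continuous
  rw [f.fiberι_asFiber] at h1
  have h2 := hcl _ (FlatEquidim.fiberι_apply_eq f _ w) h1
  have : w = f.asFiber x := (f.fiberι (f x)).isEmbedding.injective (h2.trans (f.fiberι_asFiber x).symm)
  rw [this]

theorem mapTrdeg_eq_zero_of_closed (f : X ⟶ Y) [LocallyOfFiniteType f] {x : X}
    (hcl : ∀ x' : X, f x' = f x → x ⤳ x' → x' = x) : mapTrdeg f x = 0 := by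
  obtain ⟨n, hn, hn'⟩ := height_asFiber f x
  rw [height_asFiber_eq_zero_of_closed f hcl] at hn'
  rw [hn, show n = 0 from Nat.cast_injective (R := ℕ∞) hn'.symm, Nat.cast_zero]

theorem coheight_asFiber_of_closed (f : X ⟶ Y) [LocallyOfFiniteType f] {x : X} (hx : mapTrdeg f x = 0) {n : ℕ}
    (hn : FlatMor.fibreDimAt f x = (n : WithBot ℕ∞)) : Order.coheight (f.asFiber x) = n := by
  rw [AlgSpDesc.fibreDimAt_eq_stalk_add_resTrdeg, show Dual3.resTrdeg f x = mapTrdeg f x from rfl, hx,
    map_zero, WithBot.coe_zero, add_zero, ringKrullDim_stalk_eq_coheight] at hn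
  exact_mod_cast hn

theorem locallyQuasiFinite_of_mapTrdeg_zero (f : X ⟶ Y) [LocallyOfFiniteType f]
    (h : ∀ x : X, mapTrdeg f x = 0) : LocallyQuasiFinite f := by
  refine FlatMorLib.locallyQuasiFinite_of_forall_finite_residueFieldMap f fun x => ?_
  haveI : LocallyOfFiniteType (f.fiberToSpecResidueField (f x)) := MorphismProperty.pullback_snd _ _ ‹_›
  refine (FlatMorLib.isClosed_singleton_asFiber_iff f x).1 ?_
  obtain ⟨n, hn, hn'⟩ := height_asFiber f x
  rw [h x] at hn
  have h0 : n = 0 := Nat.cast_injective (R := Cardinal.{u}) (hn.symm.trans Nat.cast_zero.symm)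
  exact isClosed_of_height_eq_zero (by rw [hn', h0, Nat.cast_zero])

theorem exists_quasiFinite_section [IsLocallyNoetherian Y] [IrreducibleSpace X] (f : X ⟶ Y)
    [LocallyOfFiniteType f] (x : X) (hcl : ∀ x' : X, f x' = f x → x ⤳ x' → x' = x)
    (hdim : ∀ t : X, t ⤳ x → f t ≠ f (genericPoint X) → f t ≠ f x →
      FlatMor.fibreDimAt f x ≤ FlatMor.fibreDimAt f t) :
    ∃ (T : Scheme.{u}) (i : T ⟶ X), IsImmersion i ∧ IrreducibleSpace ↥T ∧ IsReduced T ∧ x ∈ Set.range i.base ∧
      LocallyOfFiniteType (i ≫ f) ∧ LocallyQuasiFinite (i ≫ f) ∧ QuasiCompact (i ≫ f) ∧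
      f (genericPoint X) ∈ Set.range (i ≫ f).base := by
  haveI : IsLocallyNoetherian X := LocallyOfFiniteType.isLocallyNoetherian f
  obtain ⟨V, hV, hxV, -⟩ := exists_isAffineOpen_mem_and_subset (X := Y) (x := f x) (U := ⊤) trivial
  obtain ⟨U1, hU1, hxU1, hle'⟩ := exists_isAffineOpen_mem_and_subset (X := X) (x := x) (U := f ⁻¹ᵁ V) hxV
  have hle : U1 ≤ f ⁻¹ᵁ V := hle'
  let φ := (f.appLE V U1 hle).hom
  haveI : IsNoetherianRing Γ(X, U1) := IsLocallyNoetherian.component_noetherian ⟨U1, hU1⟩
  let P := (hU1.primeIdealOf ⟨x, hxU1⟩).asIdeal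
  let p := (hV.primeIdealOf ⟨f x, hle hxU1⟩).asIdeal
  have hP : P.comap φ = p :=
    congrArg PrimeSpectrum.asIdeal (IsAffineOpen.comap_primeIdealOf_appLE (f := f) V hV U1 hU1 hle hxU1)
  have hpP : p.map φ ≤ P := Ideal.map_le_iff_le_comap.2 hP.ge
  obtain ⟨z0, n, -, -, -, hn⟩ := exists_fibreMax f x
  have hx0 := mapTrdeg_eq_zero_of_closed f hcl
  have hco := coheight_asFiber_of_closed f hx0 hn
  -- height of `P` in the fibre ring
  let π := Ideal.Quotient.mk (p.map φ)
  haveI : (P.map π).IsPrime := Ideal.map_isPrime_of_surjective Ideal.Quotient.mk_surjective (by rwa [Ideal.mk_ker])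
  have hPc : (P.map π).comap π = P := by
    rw [Ideal.comap_map_of_surjective _ Ideal.Quotient.mk_surjective, ← RingHom.ker_eq_comap_bot, Ideal.mk_ker,
      sup_of_le_left hpP]
  have hht : (P.map π).height ≤ n := by
    rw [(⟨P.map π, inferInstance⟩ : PrimeSpectrum _).height_eq_orderHeight]
    refine Order.height_le fun l hl => ?_
    let F : Fin (l.length + 1) → PrimeSpectrum Γ(X, U1) := fun i => PrimeSpectrum.comap π (l i)
    have hFmono : StrictMono F := fun a b hab =>
      RingHom.strictMono_comap_of_surjective Ideal.Quotient.mk_surjective (l.strictMono hab)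
    have hFle : ∀ i, (F i).asIdeal ≤ P := fun i => by
      have h1 : l i ≤ (⟨P.map π, inferInstance⟩ : PrimeSpectrum _) := hl ▸ l.monotone (Fin.le_last i)
      exact (Ideal.comap_mono h1).trans hPc.le
    have hFp : ∀ i, f (hU1.fromSpec (F i)) = f x := by
      intro i
      have hm : hU1.fromSpec (F i) ∈ U1 := hU1.range_fromSpec.le ⟨_, rfl⟩
      have e1 : hU1.primeIdealOf ⟨hU1.fromSpec (F i), hm⟩ = F i :=
        hU1.fromSpec.isOpenEmbedding.injective (hU1.fromSpec_primeIdealOf _)
      refine (FlatEquidim.map_eq_iff_comap_eq f hV hU1 hle hxU1 hm).2 ?_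
      rw [e1]
      refine le_antisymm (Ideal.comap_mono (hFle i)) ?_
      show P.comap φ ≤ _
      rw [hP, ← Ideal.map_le_iff_le_comap]
      exact Ideal.mk_ker.ge.trans (fun a ha => show π a ∈ (l i).asIdeal by rw [RingHom.mem_ker.1 ha]; exact zero_mem _)
    choose G hG using fun i => (show hU1.fromSpec (F i) ∈ Set.range (f.fiberι (f x)) by
      rw [f.range_fiberι]; exact hFp i)
    have hGmono : ∀ a b, a < b → G b < G a := by
      intro a b hab
      refine FlatDim.lt_of_specializes_of_ne ((f.fiberι (f x)).isEmbedding.isInducing.specializes_iff.1 ?_) ?_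
      · rw [hG a, hG b]
        exact ((PrimeSpectrum.le_iff_specializes _ _).1 (hFmono hab).le).map hU1.fromSpec.continuous
      · intro h
        have h2 := congrArg (f.fiberι (f x)) h
        rw [hG, hG] at h2
        exact (hFmono hab).ne (hU1.fromSpec.isOpenEmbedding.injective h2).symm
    let l' : LTSeries (f.fiber (f x)) := ⟨l.length, fun i => G i.rev, fun i => hGmono _ _ (by
      rw [Fin.rev_lt_rev]; exact Fin.castSucc_lt_succ)⟩
    have hhead : f.asFiber x ≤ l'.head := by
      show G (Fin.rev 0) ⤳ f.asFiber x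
      refine (f.fiberι (f x)).isEmbedding.isInducing.specializes_iff.1 ?_
      rw [hG, f.fiberι_asFiber]
      have := ((PrimeSpectrum.le_iff_specializes (F (Fin.rev 0)) ⟨P, inferInstance⟩).1 (hFle _)).map hU1.fromSpec.continuous
      rwa [show hU1.fromSpec (⟨P, inferInstance⟩ : PrimeSpectrum Γ(X, U1)) = x from hU1.fromSpec_primeIdealOf ⟨x, hxU1⟩] at this
    have h3 := Order.length_le_coheight (p := l') hhead
    rw [hco] at h3
    exact h3
  obtain ⟨s, hs, hcard⟩ := (P.map π).exists_finset_card_eq_height_of_isNoetherianRing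
  classical
  choose lift hlift using Ideal.Quotient.mk_surjective (I := p.map φ)
  let h : Finset Γ(X, U1) := s.image lift
  have hhP : Ideal.span (h : Set Γ(X, U1)) ≤ P := Ideal.span_le.2 fun a ha => by
    obtain ⟨b, hb, rfl⟩ := Finset.mem_image.1 ha
    rw [SetLike.mem_coe, ← hPc, Ideal.mem_comap, show π (lift b) = b from hlift b]
    exact hs.1.2 (Ideal.subset_span hb)
  obtain ⟨P0, hP0, hP0P⟩ := Ideal.exists_minimalPrimes_le hhP
  haveI := hP0.1.1
  have hP0h : P0.height ≤ (n : ℕ∞) := by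
    refine (Ideal.height_le_card_of_mem_minimalPrimes_span_finset hP0).trans ?_
    refine le_trans ?_ hht
    rw [← hcard]
    exact_mod_cast Finset.card_image_le
  -- the closed subscheme
  let mk0 := Ideal.Quotient.mk P0
  let ι : Spec (CommRingCat.of (Γ(X, U1) ⧸ P0)) ⟶ X := Spec.map (CommRingCat.ofHom mk0) ≫ hU1.fromSpec
  haveI : IsClosedImmersion (Spec.map (CommRingCat.ofHom mk0)) :=
    IsClosedImmersion.spec_of_surjective _ Ideal.Quotient.mk_surjective
  haveI : IsImmersion ι := inferInstance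
  haveI : IsPreimmersion ι := inferInstance
  have hι : ∀ Q, ι Q = hU1.fromSpec (PrimeSpectrum.comap mk0 Q) := fun Q => rfl
  haveI : (P.map mk0).IsPrime := Ideal.map_isPrime_of_surjective Ideal.Quotient.mk_surjective (by rwa [Ideal.mk_ker])
  let xT : Spec (CommRingCat.of (Γ(X, U1) ⧸ P0)) := ⟨P.map mk0, inferInstance⟩
  have hxT : ι xT = x := by
    rw [hι, show PrimeSpectrum.comap mk0 ⟨P.map mk0, inferInstance⟩ = hU1.primeIdealOf ⟨x, hxU1⟩ from
      PrimeSpectrum.ext (by
        show (P.map mk0).comap mk0 = P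
        rw [Ideal.comap_map_of_surjective _ Ideal.Quotient.mk_surjective, ← RingHom.ker_eq_comap_bot, Ideal.mk_ker,
          sup_of_le_left hP0P]), hU1.fromSpec_primeIdealOf]
  haveI : LocallyOfFiniteType (ι ≫ f) := inferInstance
  haveI : IsDomain (CommRingCat.of (Γ(X, U1) ⧸ P0)) := inferInstanceAs (IsDomain (Γ(X, U1) ⧸ P0))
  let tT : Spec (CommRingCat.of (Γ(X, U1) ⧸ P0)) := ⟨⊥, Ideal.isPrime_bot⟩
  have htT : ∀ w, tT ⤳ w := fun w => (PrimeSpectrum.le_iff_specializes tT w).1 bot_le
  -- `x` is isolated in its fibre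
  have hxmax : FlatEquidim.IsFibreMax (ι ≫ f) xT := by
    intro w hw hfw
    refine ι.isEmbedding.injective ?_
    rw [hxT]
    let Q : PrimeSpectrum Γ(X, U1) := PrimeSpectrum.comap mk0 w
    have hQP : Q.asIdeal ≤ P := by
      have := (hU1.fromSpec.isOpenEmbedding.isInducing.specializes_iff
        (x := Q) (y := hU1.primeIdealOf ⟨x, hxU1⟩)).1 (by
          rw [hU1.fromSpec_primeIdealOf]
          have := hw.map ι.continuous
          rwa [hxT] at this)
      exact (PrimeSpectrum.le_iff_specializes _ _).2 this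
    have hQP0 : P0 ≤ Q.asIdeal := Ideal.mk_ker.ge.trans (fun a ha => show mk0 a ∈ w.asIdeal by rw [RingHom.mem_ker.1 ha]; exact zero_mem _)
    have hm : hU1.fromSpec Q ∈ U1 := hU1.range_fromSpec.le ⟨_, rfl⟩
    have e1 : hU1.primeIdealOf ⟨hU1.fromSpec Q, hm⟩ = Q :=
      hU1.fromSpec.isOpenEmbedding.injective (hU1.fromSpec_primeIdealOf _)
    have hQp : Q.asIdeal.comap φ = p := by
      have h2 := (FlatEquidim.map_eq_iff_comap_eq f hV hU1 hle hxU1 hm).1 (by
        show f (ι w) = f x
        rw [← hxT]; exact hfw)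
      rw [e1] at h2
      exact h2.trans hP
    have hpQ : p.map φ ≤ Q.asIdeal := Ideal.map_le_iff_le_comap.2 hQp.ge
    haveI : (Q.asIdeal.map π).IsPrime := Ideal.map_isPrime_of_surjective Ideal.Quotient.mk_surjective (by rwa [Ideal.mk_ker])
    have hQc : (Q.asIdeal.map π).comap π = Q.asIdeal := by
      rw [Ideal.comap_map_of_surjective _ Ideal.Quotient.mk_surjective, ← RingHom.ker_eq_comap_bot, Ideal.mk_ker,
        sup_of_le_left hpQ]
    have h3 : P.map π ≤ Q.asIdeal.map π := hs.2 ⟨inferInstance, Ideal.span_le.2 fun b hb => by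
      rw [SetLike.mem_coe, ← show π (lift b) = b from hlift b, ← Ideal.mem_comap, hQc]
      exact hQP0 (hP0.1.2 (Ideal.subset_span (Finset.mem_image_of_mem _ hb)))⟩ (Ideal.map_mono hQP)
    have h4 : Q.asIdeal = P := le_antisymm hQP (hPc.ge.trans ((Ideal.comap_mono h3).trans hQc.le))
    show hU1.fromSpec Q = x
    rw [show Q = hU1.primeIdealOf ⟨x, hxU1⟩ from PrimeSpectrum.ext h4, hU1.fromSpec_primeIdealOf]
  have htr : ∀ z, mapTrdeg (ι ≫ f) z = mapTrdeg f (ι z) := fun z => by
    rw [FlatEquidim.mapTrdeg_comp, mapTrdeg_eq_zero ι, add_zero]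
  have hxd : FlatMor.fibreDimAt (ι ≫ f) xT = ((0 : ℕ) : WithBot ℕ∞) :=
    fibreDimAt_of_fibreMax _ hxmax (by rw [htr, hxT, hx0, Nat.cast_zero])
  let W0 : (Spec (CommRingCat.of (Γ(X, U1) ⧸ P0))).Opens :=
    ⟨_, FibreDimChart.isOpen_fibreDimAt_le (ι ≫ f) 0⟩
  obtain ⟨T1, hT1, hxT1, hT1W⟩ := exists_isAffineOpen_mem_and_subset (x := xT) (U := W0) hxd.le
  have hT0 : ∀ z ∈ T1, mapTrdeg (ι ≫ f) z = 0 := by
    intro z hz
    obtain ⟨k, hk, -⟩ := height_asFiber (ι ≫ f) z
    have := (le_fibreDimAt (ι ≫ f) hk).trans (hT1W hz)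
    rw [hk, show k = 0 by exact Nat.le_zero.1 (by exact_mod_cast this), Nat.cast_zero]
  have htT1 : tT ∈ T1 := (htT xT).mem_open T1.isOpen hxT1
  -- the generic point dominates
  let t := ι tT
  have ht : f t = f (genericPoint X) := by
    by_contra hne
    have httr : mapTrdeg f t = 0 := by rw [← htr]; exact hT0 tT htT1
    have htx : t ⤳ x := hxT ▸ (htT xT).map ι.continuous
    obtain ⟨z1, m, -, -, -, hm⟩ := exists_fibreMax f t
    have hnm : n ≤ m := by
      by_cases hfx : f t = f x
      · have h5 : tT = xT := hxmax tT (htT xT) (by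
          show f (ι tT) = f (ι xT); rw [hxT]; exact hfx)
        have : t = x := by rw [← hxT, ← h5]
        rw [this, hn] at hm
        exact le_of_eq (Nat.cast_injective (R := WithBot ℕ∞) hm)
      · have := hdim t htx hne hfx
        rw [hn, hm] at this
        exact_mod_cast this
    have hcm := coheight_asFiber_of_closed f httr hm
    obtain ⟨l, hl1, hl2⟩ := Order.exists_series_of_le_coheight (f.asFiber t) hcm.ge
    have hmono : StrictMono (f.fiberι (f t) : f.fiber (f t) → X) := by
      intro a b hab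
      refine FlatDim.lt_of_specializes_of_ne ((show b ⤳ a from hab.le).map (f.fiberι (f t)).continuous) ?_
      exact fun h => hab.ne ((f.fiberι (f t)).isEmbedding.injective h)
    let l1 := l.map _ hmono
    have hlt : l1.last < genericPoint X := by
      refine FlatDim.lt_of_specializes_of_ne (genericPoint_specializes _) fun h => hne ?_
      rw [← h, LTSeries.last_map, FlatEquidim.fiberι_apply_eq]
    have h6 := Order.length_le_coheight_head (p := l1.snoc (genericPoint X) hlt)
    rw [RelSeries.head_snoc, RelSeries.snoc_length] at h6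
    change ((l.length + 1 : ℕ) : ℕ∞) ≤ Order.coheight l1.head at h6
    rw [LTSeries.head_map, hl1, f.fiberι_asFiber, hl2] at h6
    have hcoh : Order.coheight t = P0.height := by
      have hm' : t ∈ U1 := hU1.range_fromSpec.le ⟨_, rfl⟩
      have e1 : (hU1.primeIdealOf ⟨t, hm'⟩).asIdeal = P0 := by
        rw [show hU1.primeIdealOf ⟨t, hm'⟩ = PrimeSpectrum.comap mk0 tT from
          hU1.fromSpec.isOpenEmbedding.injective (hU1.fromSpec_primeIdealOf _)]
        show (⊥ : Ideal (Γ(X, U1) ⧸ P0)).comap mk0 = P0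
        rw [← RingHom.ker_eq_comap_bot, Ideal.mk_ker]
      letI := TopCat.Presheaf.algebra_section_stalk X.presheaf (⟨t, hm'⟩ : U1)
      haveI : IsLocalization.AtPrime (X.presheaf.stalk t) (hU1.primeIdealOf ⟨t, hm'⟩).asIdeal :=
        hU1.isLocalization_stalk ⟨t, hm'⟩
      have h7 := IsLocalization.AtPrime.ringKrullDim_eq_height (hU1.primeIdealOf ⟨t, hm'⟩).asIdeal (X.presheaf.stalk t)
      rw [ringKrullDim_stalk_eq_coheight, e1] at h7
      exact_mod_cast h7
    rw [hcoh] at h6
    have h8 : ((m + 1 : ℕ) : ℕ∞) ≤ (n : ℕ∞) := h6.trans hP0h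
    have : m + 1 ≤ n := by exact_mod_cast h8
    omega
  haveI : IrreducibleSpace (T1 : Scheme.{u}) := by
    have : IsPreirreducible (T1 : Set ↥(Spec (CommRingCat.of (Γ(X, U1) ⧸ P0)))) :=
      (PreirreducibleSpace.isPreirreducible_univ).open_subset T1.isOpen (Set.subset_univ _)
    exact Subtype.irreducibleSpace ⟨⟨xT, hxT1⟩, this⟩
  haveI : IsAffine T1 := hT1
  refine ⟨T1, T1.ι ≫ ι, inferInstance, inferInstance, inferInstance, ⟨⟨xT, hxT1⟩, hxT⟩, inferInstance,
    locallyQuasiFinite_of_mapTrdeg_zero _ fun z => ?_, inferInstance, ⟨⟨tT, htT1⟩, ht⟩⟩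
  rw [Category.assoc, mapTrdeg_restrict]
  exact hT0 _ z.2

theorem component_subscheme (ξ : X) (W : Closeds X) (hW : (W : Set X) = closure {ξ}) :
    ∃ (_ : IrreducibleSpace ↥(Scheme.IdealSheafData.vanishingIdeal W).subscheme),
      (Scheme.IdealSheafData.vanishingIdeal W).subschemeι (genericPoint ↥(Scheme.IdealSheafData.vanishingIdeal W).subscheme) = ξ ∧
      Set.range (Scheme.IdealSheafData.vanishingIdeal W).subschemeι = closure {ξ} := by
  let I := Scheme.IdealSheafData.vanishingIdeal W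
  let ι := I.subschemeι
  have hr : Set.range ι = closure {ξ} := by
    rw [I.range_subschemeι, Scheme.IdealSheafData.coe_support_vanishingIdeal, hW]
  haveI hI : IrreducibleSpace I.subscheme := by
    have hirr : IrreducibleSpace (Set.range ι) := Subtype.irreducibleSpace (hr ▸ isIrreducible_singleton.closure)
    exact (Homeomorph.irreducibleSpace_iff ι.isEmbedding.toHomeomorph).2 hirr
  refine ⟨hI, ?_, hr⟩
  obtain ⟨g, hg⟩ : ξ ∈ Set.range ι := by rw [hr]; exact subset_closure rfl
  have h1 : ι (genericPoint I.subscheme) ⤳ ξ := hg ▸ (genericPoint_specializes g).map ι.continuous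
  have h2 : ξ ⤳ ι (genericPoint I.subscheme) := specializes_iff_mem_closure.2 (hr ▸ ⟨_, rfl⟩)
  exact (h1.antisymm h2).eq

theorem isDominant_of_mem {T : Scheme.{u}} (g : T ⟶ Y) [IrreducibleSpace Y] (h : genericPoint Y ∈ Set.range g.base) :
    IsDominant g := by
  refine ⟨fun y => ?_⟩
  exact closure_mono (Set.singleton_subset_iff.2 h) (genericPoint_specializes y).mem_closure

end Groth.Agent.EquidimChart
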