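import Groth.Agent.EquidimChart.Ineq
import Groth.Agent.EquidimChart.Section
import Groth.Agent.NoethPts.Basic
import Groth.Agent.FpqcDescent.ReducedSub
import Groth.Agent.ConstrSets.Basic

/-!
A morphism open at a maximal point of a fibre has a component of the same relative dimension over the generic point.
-/

set_option autoImplicit false
set_option linter.style.haveILetI false
set_option backward.isDefEq.respectTransparency.types false

universe u

open CategoryTheory CategoryTheory.Limits AlgebraicGeometry TopologicalSpace Groth.Agent.DimTheory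

namespace Groth.Agent.EquidimChart

variable {X Y : Scheme.{u}}

theorem isClosed_le_fibreDimAt (f : X ⟶ Y) [LocallyOfFiniteType f] (n : ℕ) :
    IsClosed {w : X | (n : WithBot ℕ∞) ≤ FlatMor.fibreDimAt f w} := by
  rcases n with _ | m
  · convert isClosed_univ (X := X)
    refine Set.eq_univ_of_forall fun w => ?_
    obtain ⟨k, hk, -⟩ := height_asFiber f w
    exact le_trans (by exact_mod_cast Nat.zero_le k) (le_fibreDimAt f hk)
  · rw [← isOpen_compl_iff]
    convert FibreDimChart.isOpen_fibreDimAt_le f m using 1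
    ext w
    obtain ⟨z, k, -, -, -, hk⟩ := exists_fibreMax f w
    simp only [Set.mem_compl_iff, Set.mem_setOf_eq, hk, Nat.cast_le]
    omega

/-- a morphism from a reduced scheme into a closed set kills its vanishing ideal -/
theorem vanishingIdeal_le_ker [IsReduced Y] (g : Y ⟶ X) (F : Closeds X)
    (h : ∀ w, g w ∈ F) : Scheme.IdealSheafData.vanishingIdeal F ≤ g.ker := by
  refine Scheme.IdealSheafData.le_ofIdeals_iff.2 fun U s hs => ?_
  rw [Scheme.IdealSheafData.vanishingIdeal_ideal, PrimeSpectrum.mem_vanishingIdeal] at hs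
  rw [RingHom.mem_ker, ← basicOpen_eq_bot_iff, ← Scheme.preimage_basicOpen, eq_bot_iff]
  intro w hw
  have hwU : g w ∈ (U : X.Opens) := X.basicOpen_le s hw
  have hp := hs (U.2.primeIdealOf ⟨g w, hwU⟩)
    (show U.2.fromSpec _ ∈ F by rw [U.2.fromSpec_primeIdealOf]; exact h w)
  have hmem : U.2.primeIdealOf ⟨g w, hwU⟩ ∈ U.2.fromSpec ⁻¹ᵁ X.basicOpen s := by
    show U.2.fromSpec _ ∈ X.basicOpen s
    rw [U.2.fromSpec_primeIdealOf]
    exact hw
  rw [U.2.fromSpec_preimage_basicOpen] at hmem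
  exact absurd hp hmem

/-- In a Noetherian irreducible scheme, outside a proper closed subset there is an immediate generization. -/
theorem exists_immediate_generization [IsLocallyNoetherian Y] [IrreducibleSpace Y] (y : Y) (hy : y ≠ genericPoint Y)
    (Z : Set Y) (hZ : IsClosed Z) (hη : genericPoint Y ∉ Z) :
    ∃ y' : Y, y' ⤳ y ∧ y' ≠ y ∧ y' ∉ Z ∧ ∀ z : Y, y' ⤳ z → z ⤳ y → z = y' ∨ z = y := by
  suffices key : ∀ Z : Set Y, IsClosed Z → genericPoint Y ∉ Z → y ∈ Z →
      ∃ y' : Y, y' ⤳ y ∧ y' ≠ y ∧ y' ∉ Z ∧ ∀ z : Y, y' ⤳ z → z ⤳ y → z = y' ∨ z = y by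
    obtain ⟨y', h1, h2, h3, h4⟩ := key (Z ∪ closure {y}) (hZ.union isClosed_closure) (fun h => h.elim hη fun h' =>
      hy ((specializes_iff_mem_closure.2 h').antisymm (genericPoint_specializes y)).eq) (Or.inr (subset_closure rfl))
    exact ⟨y', h1, h2, fun h => h3 (Or.inl h), h4⟩
  clear hη hZ Z
  intro Z hZ hη hyZ
  obtain ⟨V, hV, hyV, -⟩ := exists_isAffineOpen_mem_and_subset (X := Y) (x := y) (U := ⊤) trivial
  haveI : IsNoetherianRing Γ(Y, V) := IsLocallyNoetherian.component_noetherian ⟨V, hV⟩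
  have hηV : genericPoint Y ∈ V := (genericPoint_specializes y).mem_open V.isOpen hyV
  let P := hV.primeIdealOf ⟨y, hyV⟩
  obtain ⟨W, hW⟩ := (PrimeSpectrum.isClosed_iff_zeroLocus _).1 (hZ.preimage hV.fromSpec.continuous)
  have hf : ∃ f ∈ W, f ∉ (hV.primeIdealOf ⟨genericPoint Y, hηV⟩).asIdeal := by
    by_contra! h
    apply hη
    have : hV.fromSpec (hV.primeIdealOf ⟨genericPoint Y, hηV⟩) ∈ Z := (Set.ext_iff.1 hW _).2 (show W ⊆ _ from h)
    rwa [hV.fromSpec_primeIdealOf] at this
  obtain ⟨f, hfW, hf⟩ := hf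
  have hfP : f ∈ P.asIdeal := (show P ∈ PrimeSpectrum.zeroLocus W from hW ▸ (by
    show hV.fromSpec P ∈ Z
    rw [hV.fromSpec_primeIdealOf]; exact hyZ)) hfW
  -- a maximal prime below `P` avoiding `f`
  let T : Set (Ideal Γ(Y, V)) := {Q | Q.IsPrime ∧ Q ≤ P.asIdeal ∧ f ∉ Q}
  have hη' : (hV.primeIdealOf ⟨genericPoint Y, hηV⟩).asIdeal ∈ T :=
    ⟨inferInstance, (FlatEquidim.specializes_iff_le hV hyV hηV).1 (genericPoint_specializes y), hf⟩
  obtain ⟨p, ⟨hp, hpP, hfp⟩, hmax⟩ := (IsWellFounded.wf (r := (· > · : Ideal Γ(Y, V) → _ → Prop))).has_min T ⟨_, hη'⟩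
  obtain ⟨y', hy'V, hy'p⟩ := FlatEquidim.exists_point hV ⟨p, hp⟩
  have hy'p' : (hV.primeIdealOf ⟨y', hy'V⟩).asIdeal = p := congrArg PrimeSpectrum.asIdeal hy'p
  refine ⟨y', (FlatEquidim.specializes_iff_le hV hyV hy'V).2 (hy'p'.le.trans hpP), ?_, ?_, fun z hz hzy => ?_⟩
  · rintro rfl
    exact hfp (hy'p' ▸ hfP)
  · intro h
    have h' : hV.fromSpec ⟨p, hp⟩ ∈ Z := by
      rw [← hy'p, hV.fromSpec_primeIdealOf]; exact h
    exact hfp ((Set.ext_iff.1 hW _).1 h' hfW)
  · have hzV : z ∈ V := hzy.mem_open V.isOpen hyV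
    let q := (hV.primeIdealOf ⟨z, hzV⟩).asIdeal
    have hpq : p ≤ q := hy'p'.ge.trans ((FlatEquidim.specializes_iff_le hV hzV hy'V).1 hz)
    have hqP : q ≤ P.asIdeal := (FlatEquidim.specializes_iff_le hV hyV hzV).1 hzy
    have heq : ∀ (a : Y) (ha : a ∈ V), q = (hV.primeIdealOf ⟨a, ha⟩).asIdeal → z = a := fun a ha h =>
      (hV.fromSpec_primeIdealOf ⟨z, hzV⟩).symm.trans ((congrArg hV.fromSpec (PrimeSpectrum.ext h)).trans
        (hV.fromSpec_primeIdealOf ⟨a, ha⟩))
    by_contra! hne
    have hqp : q ≠ p := fun h => hne.1 (heq y' hy'V (h.trans hy'p'.symm))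
    have hqP' : q ≠ P.asIdeal := fun h => hne.2 (heq y hyV h)
    haveI := hp
    -- work modulo `p`
    let B := Γ(Y, V) ⧸ p
    haveI : (P.asIdeal.map (Ideal.Quotient.mk p)).IsPrime :=
      Ideal.map_isPrime_of_surjective Ideal.Quotient.mk_surjective (by rw [Ideal.mk_ker]; exact hpP)
    let Bm := Localization.AtPrime (P.asIdeal.map (Ideal.Quotient.mk p))
    have hf0 : algebraMap B Bm (Ideal.Quotient.mk p f) ≠ 0 := fun h =>
      hfp (Ideal.Quotient.eq_zero_iff_mem.1 (IsLocalization.injective Bm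
        (Ideal.primeCompl_le_nonZeroDivisors (P.asIdeal.map (Ideal.Quotient.mk p))) (h.trans (map_zero _).symm)))
    have hiso : ∀ Q : Ideal Bm, Q.IsPrime → algebraMap B Bm (Ideal.Quotient.mk p f) ∉ Q → Q = ⊥ := by
      intro Q hQ hfQ
      let Q0 := (Q.comap (algebraMap B Bm)).comap (Ideal.Quotient.mk p)
      have hQ0 : Q0 ≤ P.asIdeal := by
        refine (Ideal.comap_mono ((Ideal.comap_mono (IsLocalRing.le_maximalIdeal hQ.ne_top)).trans
          Localization.AtPrime.under_maximalIdeal.le)).trans ?_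
        rw [Ideal.comap_map_of_surjective _ Ideal.Quotient.mk_surjective, ← RingHom.ker_eq_comap_bot, Ideal.mk_ker,
          sup_of_le_left hpP]
      have hpQ0 : p ≤ Q0 := fun a ha => by
        show algebraMap B Bm (Ideal.Quotient.mk p a) ∈ Q
        rw [Ideal.Quotient.eq_zero_iff_mem.2 ha, map_zero]; exact zero_mem _
      have h1 : Q0 = p := le_antisymm (by
        by_contra hn
        exact hmax Q0 ⟨inferInstance, hQ0, hfQ⟩ (lt_of_le_not_ge hpQ0 hn)) hpQ0
      rw [← IsLocalization.map_comap (P.asIdeal.map (Ideal.Quotient.mk p)).primeCompl Bm Q]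
      have h2 : Q.comap (algebraMap B Bm) = ⊥ := by
        rw [← Ideal.map_comap_of_surjective _ Ideal.Quotient.mk_surjective (Q.comap (algebraMap B Bm)),
          show (Q.comap (algebraMap B Bm)).comap (Ideal.Quotient.mk p) = p from h1, Ideal.map_quotient_self]
      rw [show Q.under B = ⊥ from h2, Ideal.map_bot]
    obtain ⟨hmx, -⟩ := NoethPts.isMaximal_and_finite_of_isolated hf0 hiso
    have hmq : (q.map (Ideal.Quotient.mk p)).IsPrime :=
      Ideal.map_isPrime_of_surjective Ideal.Quotient.mk_surjective (by rw [Ideal.mk_ker]; exact hpq)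
    have hqc : (q.map (Ideal.Quotient.mk p)).comap (Ideal.Quotient.mk p) = q := by
      rw [Ideal.comap_map_of_surjective _ Ideal.Quotient.mk_surjective, ← RingHom.ker_eq_comap_bot, Ideal.mk_ker,
        sup_of_le_left hpq]
    have hd : Disjoint ((P.asIdeal.map (Ideal.Quotient.mk p)).primeCompl : Set B) (q.map (Ideal.Quotient.mk p) : Ideal B) :=
      Set.disjoint_left.2 fun a ha ha' => ha (Ideal.map_mono hqP ha')
    let qm := (q.map (Ideal.Quotient.mk p)).map (algebraMap B Bm)
    haveI : qm.IsPrime := IsLocalization.isPrime_of_isPrime_disjoint _ Bm _ hmq hd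
    have hqmc : (qm.comap (algebraMap B Bm)).comap (Ideal.Quotient.mk p) = q := by
      rw [← Ideal.under_def, IsLocalization.under_map_of_isPrime_disjoint _ Bm hmq hd, hqc]
    have hqm0 : qm ≠ ⊥ := fun h => hqp (le_antisymm (by
      rw [← hqmc, h, ← RingHom.ker_eq_comap_bot, (RingHom.injective_iff_ker_eq_bot _).1
        (IsLocalization.injective Bm (Ideal.primeCompl_le_nonZeroDivisors (P.asIdeal.map (Ideal.Quotient.mk p)))), ← RingHom.ker_eq_comap_bot, Ideal.mk_ker])
      hpq)
    have h3 := IsLocalRing.eq_maximalIdeal (hmx qm inferInstance hqm0)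
    apply hqP'
    rw [← hqmc, h3, ← Ideal.under_def, Localization.AtPrime.under_maximalIdeal,
      Ideal.comap_map_of_surjective _ Ideal.Quotient.mk_surjective, ← RingHom.ker_eq_comap_bot, Ideal.mk_ker,
      sup_of_le_left hpP]

/-- the generic fibre has a component of the same dimension through `x` -/
theorem exists_generic_of_isOpenAt [IrreducibleSpace Y] [IsLocallyNoetherian Y] (f : X ⟶ Y) [LocallyOfFiniteType f]
    (x : X) (hx : FlatEquidim.IsFibreMax f x) (hopen : EGA43.IsOpenAt f.base x) {n : ℕ} (hn : mapTrdeg f x = n) :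
    ∃ ξ : X, ξ ⤳ x ∧ (∀ z : X, z ⤳ ξ → z = ξ) ∧ f ξ = genericPoint Y ∧ mapTrdeg f ξ = n := by
  haveI : IsLocallyNoetherian X := LocallyOfFiniteType.isLocallyNoetherian f
  have hxn := fibreDimAt_of_fibreMax f hx hn
  let U0 : X.Opens := ⟨_, FibreDimChart.isOpen_fibreDimAt_le f n⟩
  obtain ⟨U1, hxU1, hU10, hU1max⟩ := exists_nbhd_max_specializes (x := x) (U := U0) hxn.le
  obtain ⟨U, hU, hxU, hUU1⟩ := exists_isAffineOpen_mem_and_subset (X := X) hxU1
  haveI : IsAffine U := hU
  haveI : IsNoetherian (U : Scheme.{u}) := {}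
  have hbd : ∀ w ∈ U, FlatMor.fibreDimAt f w ≤ (n : WithBot ℕ∞) := fun w hw => hU10 (hUU1 hw)
  suffices ∃ w ∈ U, f w = genericPoint Y ∧ (n : WithBot ℕ∞) ≤ FlatMor.fibreDimAt f w by
    obtain ⟨w, hwU, hw, hwn⟩ := this
    obtain ⟨z, m, hzw, hz, hm, hd⟩ := exists_fibreMax f w
    have hzU : z ∈ U := hzw.mem_open U.isOpen hwU
    have hfz : f z = genericPoint Y :=
      ((hw ▸ hzw.map f.continuous).antisymm (genericPoint_specializes (f z))).eq
    have hzmax : ∀ v : X, v ⤳ z → v = z := fun v hv => hz v hv (by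
      rw [hfz]
      exact ((hfz ▸ hv.map f.continuous).antisymm (genericPoint_specializes (f v))).eq)
    have h1 : n ≤ m := by rw [hd] at hwn; exact_mod_cast hwn
    have h2 : m ≤ n := by
      have := (le_fibreDimAt f hm).trans (hbd z hzU)
      exact_mod_cast this
    exact ⟨z, hU1max z (hUU1 hzU) hzmax, hzmax, hfz, by rw [hm, le_antisymm h2 h1]⟩
  by_cases hy : f x = genericPoint Y
  · exact ⟨x, hxU, hy, hxn.ge⟩
  by_contra! hno
  -- the image of the closed set of points with large fibre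
  let g := U.ι ≫ f
  let F : Set (U : Scheme.{u}) := U.ι.base ⁻¹' {w | (n : WithBot ℕ∞) ≤ FlatMor.fibreDimAt f w}
  have hF : IsClosed F := (isClosed_le_fibreDimAt f n).preimage U.ι.continuous
  let FC : Closeds (U : Scheme.{u}) := ⟨F, hF⟩
  let ιF := (Scheme.IdealSheafData.vanishingIdeal FC).subschemeι
  have hrF : Set.range ιF = F := by
    rw [Scheme.IdealSheafData.range_subschemeι, Scheme.IdealSheafData.coe_support_vanishingIdeal]; rfl
  haveI : CompactSpace ↥(Scheme.IdealSheafData.vanishingIdeal FC).subscheme := ιF.isClosedEmbedding.compactSpace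
  haveI : IsLocallyNoetherian (Scheme.IdealSheafData.vanishingIdeal FC).subscheme :=
    LocallyOfFiniteType.isLocallyNoetherian ιF
  haveI : IsNoetherian (Scheme.IdealSheafData.vanishingIdeal FC).subscheme := {}
  have hfin := NoetherianSpace.finite_irreducibleComponents (α := ↥(Scheme.IdealSheafData.vanishingIdeal FC).subscheme)
  let h := ιF ≫ U.ι ≫ f
  let Z : Set Y := ⋃ C ∈ irreducibleComponents ↥(Scheme.IdealSheafData.vanishingIdeal FC).subscheme, closure (h.base '' C)
  have hZc : IsClosed Z := hfin.isClosed_biUnion fun C _ => isClosed_closure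
  have hηZ : genericPoint Y ∉ Z := fun hmem => by
    obtain ⟨C, hC, hηC⟩ := Set.mem_iUnion₂.1 hmem
    rw [← component_eq_closure hC, closure_image_closure h.continuous, Set.image_singleton] at hηC
    have h1 := ((genericPoint_specializes (h hC.1.genericPoint)).antisymm (specializes_iff_mem_closure.2 hηC)).eq
    let w := ιF hC.1.genericPoint
    have hwF : w ∈ F := hrF.le ⟨_, rfl⟩
    exact (hno (U.ι w) w.2 h1.symm).not_ge hwF
  obtain ⟨y', hy'y, hy'ne, hy'Z, hbetween⟩ := exists_immediate_generization (f x) hy Z hZc hηZ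
  -- points over `y'` near `x`
  let x0 : (U : Scheme.{u}) := ⟨x, hxU⟩
  have hxcl : x0 ∈ closure (g.base ⁻¹' {y'}) := by
    refine mem_closure_iff.2 fun O hO hxO => ?_
    have hO' : IsOpen (U.ι.base '' O) := U.ι.isOpenEmbedding.isOpenMap O hO
    obtain ⟨_, ⟨b, hb, rfl⟩, hbe⟩ := mem_of_mem_nhds (x := y')
      (show f.base '' (U.ι.base '' O) ∈ nhds y' from hy'y (hopen _ (hO'.mem_nhds ⟨_, hxO, rfl⟩)))
    exact ⟨b, hb, hbe⟩
  haveI : LocallyOfFiniteType (g.fiberToSpecResidueField y') := MorphismProperty.pullback_snd _ _ inferInstance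
  haveI : QuasiCompact (g.fiberToSpecResidueField y') := MorphismProperty.pullback_snd _ _ inferInstance
  haveI : IsLocallyNoetherian (g.fiber y') := LocallyOfFiniteType.isLocallyNoetherian (g.fiberToSpecResidueField y')
  haveI : CompactSpace (g.fiber y') := QuasiCompact.compactSpace_of_compactSpace (g.fiberToSpecResidueField y')
  haveI : IsNoetherian (g.fiber y') := {}
  have hfin' := NoetherianSpace.finite_irreducibleComponents (α := g.fiber y')
  have hsub : g.base ⁻¹' {y'} ⊆ ⋃ C ∈ irreducibleComponents ↥(g.fiber y'), closure ((g.fiberι y').base '' C) := by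
    intro b hb
    obtain ⟨w, rfl⟩ : b ∈ Set.range (g.fiberι y') := by rw [g.range_fiberι]; exact hb
    exact Set.mem_iUnion₂.2 ⟨_, irreducibleComponent_mem_irreducibleComponents w,
      subset_closure ⟨w, mem_irreducibleComponent, rfl⟩⟩
  obtain ⟨C, hC, hxC⟩ := Set.mem_iUnion₂.1
    (closure_minimal hsub (hfin'.isClosed_biUnion fun C _ => isClosed_closure) hxcl)
  rw [← component_eq_closure hC, closure_image_closure (g.fiberι y').continuous, Set.image_singleton] at hxC
  let w : (U : Scheme.{u}) := g.fiberι y' hC.1.genericPoint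
  have hfw : f (U.ι w) = y' := FlatEquidim.fiberι_apply_eq g y' _
  have hwx : U.ι w ⤳ x := (specializes_iff_mem_closure.2 hxC).map U.ι.continuous
  -- the dimension inequality
  let Wc : Closeds X := ⟨closure {U.ι w}, isClosed_closure⟩
  obtain ⟨hWirr, hWg, hWr⟩ := component_subscheme (U.ι w) Wc rfl
  let Yc : Closeds Y := ⟨closure {y'}, isClosed_closure⟩
  obtain ⟨hYirr, hYg, hYr⟩ := component_subscheme y' Yc rfl
  let ιW := (Scheme.IdealSheafData.vanishingIdeal Wc).subschemeι
  let ιY := (Scheme.IdealSheafData.vanishingIdeal Yc).subschemeι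
  haveI : IsLocallyNoetherian (Scheme.IdealSheafData.vanishingIdeal Yc).subscheme :=
    LocallyOfFiniteType.isLocallyNoetherian ιY
  haveI : IsReduced (Scheme.IdealSheafData.vanishingIdeal Wc).subscheme := inferInstance
  have hrange : ∀ z, (ιW ≫ f) z ∈ Yc := fun z => by
    have h1 : U.ι w ⤳ ιW z := specializes_iff_mem_closure.2 (hWr.le ⟨z, rfl⟩)
    exact specializes_iff_mem_closure.1 (hfw ▸ h1.map f.continuous)
  let l := IsClosedImmersion.lift ιY (ιW ≫ f) (by
    rw [Scheme.IdealSheafData.ker_subschemeι]; exact vanishingIdeal_le_ker _ _ hrange)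
  have hl : l ≫ ιY = ιW ≫ f := IsClosedImmersion.lift_fac _ _ _
  haveI : LocallyOfFiniteType (l ≫ ιY) := by rw [hl]; infer_instance
  haveI : LocallyOfFiniteType l := locallyOfFiniteType_of_comp l ιY
  have hlg : l (genericPoint _) = genericPoint _ := ιY.isEmbedding.injective (by
    rw [← Scheme.Hom.comp_apply, hl, Scheme.Hom.comp_apply, hWg, hYg]; exact hfw)
  obtain ⟨xW, hxW⟩ : x ∈ Set.range ιW := by rw [hWr]; exact specializes_iff_mem_closure.1 hwx
  have hlx : ιY (l xW) = f x := by rw [← Scheme.Hom.comp_apply, hl, Scheme.Hom.comp_apply, hxW]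
  obtain ⟨d, d', t, e, hd, hd', ht, he, hsum⟩ := dim_stalk_add_trdeg_le l hlg xW
  have htr : ∀ z, mapTrdeg f (ιW z) = mapTrdeg l z := fun z => by
    have h1 : mapTrdeg (l ≫ ιY) z = mapTrdeg (ιW ≫ f) z := by rw [hl]
    rw [FlatEquidim.mapTrdeg_comp, FlatEquidim.mapTrdeg_comp, mapTrdeg_eq_zero ιY, mapTrdeg_eq_zero ιW,
      zero_add, add_zero] at h1
    exact h1.symm
  rw [← htr, hxW, hn] at ht
  rw [← htr, hWg] at he
  obtain rfl : n = t := Nat.cast_injective (R := Cardinal.{u}) ht
  have hd1 : 1 ≤ d := by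
    have hlt : xW < genericPoint _ := FlatDim.lt_of_specializes_of_ne (genericPoint_specializes xW) fun h => hy'ne (by
      rw [← hfw, ← hWg, ← h, hxW])
    have h1 := Order.coheight_add_one_le hlt
    rw [ringKrullDim_stalk_eq_coheight] at hd
    rw [show Order.coheight xW = (d : ℕ∞) from WithBot.coe_injective hd] at h1
    exact_mod_cast le_trans le_add_self h1
  have hd'1 : d' ≤ 1 := by
    rw [ringKrullDim_stalk_eq_coheight] at hd'
    have hd2 : Order.coheight (l xW) = (d' : ℕ∞) := WithBot.coe_injective hd'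
    by_contra hlt
    obtain ⟨s, hs1, hs2⟩ := Order.exists_series_of_le_coheight (l xW) hd2.ge
    have h1 := s.strictMono (show (⟨0, by omega⟩ : Fin (s.length + 1)) < ⟨1, by omega⟩ from Fin.mk_lt_mk.2 one_pos)
    have h2 := s.strictMono (show (⟨1, by omega⟩ : Fin (s.length + 1)) < ⟨2, by omega⟩ from Fin.mk_lt_mk.2 (by omega))
    let a := s ⟨1, by omega⟩
    have ha : l xW < a := hs1 ▸ h1
    rcases hbetween (ιY a) (hYg ▸ (genericPoint_specializes a).map ιY.continuous)
      (hlx ▸ (show a ⤳ l xW from ha.le).map ιY.continuous) with h | h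
    · rw [← hYg] at h
      have h2' : a < s ⟨2, by omega⟩ := h2
      rw [ιY.isEmbedding.injective h] at h2'
      exact h2'.not_ge (genericPoint_specializes _)
    · rw [← hlx] at h
      exact ha.ne (ιY.isEmbedding.injective h).symm
  have hne : (n : WithBot ℕ∞) ≤ FlatMor.fibreDimAt f (U.ι w) :=
    le_trans (by exact_mod_cast (show n ≤ e by omega)) (le_fibreDimAt f he)
  obtain ⟨a, ha⟩ : w ∈ Set.range ιF := by rw [hrF]; exact hne
  refine hy'Z (Set.mem_iUnion₂.2 ⟨_, irreducibleComponent_mem_irreducibleComponents a,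
    subset_closure ⟨a, mem_irreducibleComponent, ?_⟩⟩)
  show f (U.ι (ιF a)) = y'
  rw [ha]; exact hfw

/-- openness at a maximal point of a fibre: every generization of the image has a fibre component of the same dimension -/
theorem exists_over_generization [IsLocallyNoetherian Y] (f : X ⟶ Y) [LocallyOfFiniteType f]
    (x : X) (hx : FlatEquidim.IsFibreMax f x) (hopen : EGA43.IsOpenAt f.base x) {n : ℕ} (hn : mapTrdeg f x = n)
    {z : Y} (hz : z ⤳ f x) :
    ∃ ξ : X, ξ ⤳ x ∧ f ξ = z ∧ FlatEquidim.IsFibreMax f ξ ∧ mapTrdeg f ξ = n := by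
  let Zc : Closeds Y := ⟨closure {z}, isClosed_closure⟩
  obtain ⟨hirr, hg, hr⟩ := component_subscheme z Zc rfl
  let ι := (Scheme.IdealSheafData.vanishingIdeal Zc).subschemeι
  haveI : IsLocallyNoetherian (Scheme.IdealSheafData.vanishingIdeal Zc).subscheme := LocallyOfFiniteType.isLocallyNoetherian ι
  obtain ⟨a, ha⟩ : f x ∈ Set.range ι := by rw [hr]; exact specializes_iff_mem_closure.1 hz
  obtain ⟨x', hx'1, hx'2⟩ := Scheme.Pullback.exists_preimage_pullback (f := f) (g := ι) x a ha.symm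
  haveI : LocallyOfFiniteType (pullback.snd f ι) := MorphismProperty.pullback_snd _ _ ‹_›
  haveI : IsClosedImmersion (pullback.fst f ι) := MorphismProperty.pullback_fst _ _ inferInstance
  have hc : ∀ w, f (pullback.fst f ι w) = ι (pullback.snd f ι w) := fun w => congr($(pullback.condition (f := f) (g := ι)) w)
  have htr : ∀ w, mapTrdeg (pullback.snd f ι) w = mapTrdeg f (pullback.fst f ι w) := fun w => by
    have h1 : mapTrdeg (pullback.fst f ι ≫ f) w = mapTrdeg (pullback.snd f ι ≫ ι) w := by rw [pullback.condition]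
    rw [FlatEquidim.mapTrdeg_comp, FlatEquidim.mapTrdeg_comp, mapTrdeg_eq_zero ι, mapTrdeg_eq_zero (pullback.fst f ι),
      zero_add, add_zero] at h1
    exact h1.symm
  have hmax' : FlatEquidim.IsFibreMax (pullback.snd f ι) x' := fun w hw hfw => by
    refine (pullback.fst f ι).isEmbedding.injective ?_
    rw [hx'1]
    exact hx _ (hx'1 ▸ hw.map (pullback.fst f ι).continuous) (by rw [hc, hfw, hx'2, ha])
  have hop : EGA43.IsOpenAt (pullback.snd f ι).base x' := by
    intro O hO
    obtain ⟨O1, hO1, hsub⟩ := (pullback.fst f ι).isEmbedding.isInducing.nhds_eq_comap x' ▸ hO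
    rw [hx'1] at hO1
    have h1 : ι.base ⁻¹' (f.base '' O1) ∈ nhds ((pullback.snd f ι).base x') :=
      ι.continuous.continuousAt.preimage_mem_nhds (by
        show f.base '' O1 ∈ nhds (ι (pullback.snd f ι x'))
        rw [hx'2, ha]; exact hopen O1 hO1)
    refine Filter.mem_of_superset h1 ?_
    rintro b ⟨o, ho, hob⟩
    obtain ⟨w, hw1, hw2⟩ := Scheme.Pullback.exists_preimage_pullback (f := f) (g := ι) o b hob
    exact ⟨w, hsub (show pullback.fst f ι w ∈ O1 by rw [hw1]; exact ho), hw2⟩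
  obtain ⟨ξ, hξx, hξmax, hξg, hξn⟩ := exists_generic_of_isOpenAt (pullback.snd f ι) x' hmax' hop
    (show mapTrdeg (pullback.snd f ι) x' = n by rw [htr, hx'1]; exact hn)
  refine ⟨pullback.fst f ι ξ, hx'1 ▸ hξx.map (pullback.fst f ι).continuous, by rw [hc, hξg, hg], ?_, by rw [← htr]; exact hξn⟩
  intro w hw hfw
  obtain ⟨w', -, rfl⟩ : ∃ w', w' ⤳ ξ ∧ pullback.fst f ι w' = w := by
    obtain ⟨b, hb⟩ : f w ∈ Set.range ι := by
      rw [hr, hfw, hc, hξg, hg]; exact subset_closure rfl
    obtain ⟨w', hw1, -⟩ := Scheme.Pullback.exists_preimage_pullback (f := f) (g := ι) w b hb.symm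
    exact ⟨w', (pullback.fst f ι).isEmbedding.isInducing.specializes_iff.1 (hw1.symm ▸ hw), hw1⟩
  rw [hξmax w' ((pullback.fst f ι).isEmbedding.isInducing.specializes_iff.1 hw)]

/-- a locally constructible set containing all generizations of `y` is a neighbourhood of `y` -/
theorem mem_nhds_of_generizations [IsLocallyNoetherian Y] {E : Set Y} (hE : Topology.IsLocallyConstructible E)
    {y : Y} (h : ∀ z : Y, z ⤳ y → z ∈ E) : E ∈ nhds y := by
  obtain ⟨U, hUn, hU, hEU⟩ := hE y
  obtain ⟨V, hV, hyV, hVU⟩ := exists_isAffineOpen_mem_and_subset (X := Y) (x := y) (U := ⟨U, hU⟩) (mem_of_mem_nhds hUn)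
  haveI : IsAffine V := hV
  haveI : IsNoetherian (V : Scheme.{u}) := {}
  let yV : (V : Scheme.{u}) := ⟨y, hyV⟩
  have hc : Topology.IsConstructible (V.ι.base ⁻¹' E) := by
    have := hEU.preimage_of_isOpenEmbedding (f := fun v : (V : Scheme.{u}) => (⟨V.ι v, hVU v.2⟩ : U))
      (Topology.IsOpenEmbedding.of_comp _ hU.isOpenEmbedding_subtypeVal V.ι.isOpenEmbedding)
    exact this
  have hn : V.ι.base ⁻¹' E ∈ nhds yV := ConstrSets.mem_nhds_of_forall fun Z hZ hZi hyZ => by
    have hξ := hZi.isGenericPoint_genericPoint hZ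
    exact ConstrSets.exists_open_of_dense' hc hZi (hξ.symm.le.trans
      (closure_mono (Set.singleton_subset_iff.2 ⟨h _ ((hξ.specializes hyZ).map V.ι.continuous), hξ.mem⟩)))
  have := V.ι.isOpenEmbedding.isOpenMap.image_mem_nhds hn
  exact Filter.mem_of_superset this (Set.image_preimage_subset _ _)

/-- fibre dimensions grow under generization along an open map -/
theorem dim_fiber_mono [IsLocallyNoetherian Y] (f : X ⟶ Y) [LocallyOfFiniteType f] (hf : IsOpenMap f.base)
    {a b : Y} (hb : b ⤳ a) : topologicalKrullDim ↥(f.fiber a) ≤ topologicalKrullDim ↥(f.fiber b) := by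
  haveI : LocallyOfFiniteType (f.fiberToSpecResidueField a) := MorphismProperty.pullback_snd _ _ ‹_›
  haveI : LocallyOfFiniteType (f.fiberToSpecResidueField b) := MorphismProperty.pullback_snd _ _ ‹_›
  rw [topologicalKrullDim_eq_iSup_height, topologicalKrullDim_eq_iSup_height]
  refine iSup_le fun w => ?_
  obtain ⟨m, hm, hmax⟩ := FlatMorLib.exists_maximal_generization w
  obtain ⟨n, hn, hn'⟩ := exists_height_eq (k := Y.residueField a) (f.fiberToSpecResidueField a) m
  rw [FlatEquidim.resTrdeg_fiber_eq] at hn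
  have hfm := FlatEquidim.fiberι_apply_eq f a m
  obtain ⟨ξ, -, hfξ, -, hξ⟩ := exists_over_generization f (f.fiberι a m)
    (fun z hz hfz => FlatDim.eq_fiberι_of_isMax f hmax hz (hfz.trans hfm))
    (fun O hO => hf.image_mem_nhds hO) hn (hfm.symm ▸ hb)
  obtain ⟨v, hv⟩ : ξ ∈ Set.range (f.fiberι b) := by rw [f.range_fiberι]; exact hfξ
  obtain ⟨k, hk, hk'⟩ := exists_height_eq (k := Y.residueField b) (f.fiberToSpecResidueField b) v
  rw [FlatEquidim.resTrdeg_fiber_eq, hv, hξ] at hk
  refine le_iSup_of_le v (WithBot.coe_le_coe.2 ?_)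
  rw [hk', ← Nat.cast_injective (R := Cardinal.{u}) hk, ← hn']
  exact Order.height_mono (show w ≤ m from hm)

theorem dim_fiber_restrict (f : X ⟶ Y) (U : X.Opens) (z : Y) :
    topologicalKrullDim ↥((U : Set X) ∩ f.base ⁻¹' {z}) = topologicalKrullDim ↥((U.ι ≫ f).fiber z) := by
  rw [← fiber_dim_eq (U.ι ≫ f) z]
  have hr : Set.range (U.ι.base ∘ (Subtype.val : ↥((U.ι ≫ f).base ⁻¹' {z}) → _)) = (U : Set X) ∩ f.base ⁻¹' {z} := by
    rw [Set.range_comp, Subtype.range_coe]
    ext a
    constructor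
    · rintro ⟨b, hb, rfl⟩; exact ⟨b.2, hb⟩
    · rintro ⟨ha, ha'⟩; exact ⟨⟨a, ha⟩, ha', rfl⟩
  exact (((U.ι.isEmbedding.comp Topology.IsEmbedding.subtypeVal).toHomeomorph).trans
    (Homeomorph.setCongr hr)).isHomeomorph.topologicalKrullDim_eq.symm

end Groth.Agent.EquidimChart
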