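import Groth.Agent.EquidimChart.Crit
import Groth.Agent.EquidimChart.Ineq
import Groth.Agent.EquidimChart.OpenAt

/-!
# A closed irreducible subset, reduced, over a morphism
-/

set_option autoImplicit false
set_option backward.isDefEq.respectTransparency.types false
universe u

open AlgebraicGeometry CategoryTheory TopologicalSpace Topology
open Groth.Agent.DimTheory

namespace Groth.Agent.EquidimChart

variable {X Y : Scheme.{u}}

theorem range_subschemeι_vanishingIdeal (W : Closeds X) :
    Set.range (Scheme.IdealSheafData.vanishingIdeal W).subschemeι = (W : Set X) := by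
  rw [Scheme.IdealSheafData.range_subschemeι, Scheme.IdealSheafData.coe_support_vanishingIdeal]

theorem mem_of_subschemeι (W : Closeds X) (w : ↥(Scheme.IdealSheafData.vanishingIdeal W).subscheme) :
    (Scheme.IdealSheafData.vanishingIdeal W).subschemeι w ∈ (W : Set X) := by
  have := Set.mem_range_self (f := ((Scheme.IdealSheafData.vanishingIdeal W).subschemeι : _ → X)) w
  rwa [range_subschemeι_vanishingIdeal] at this

/-- the generic point of the reduced scheme on `closure {ξ}` -/
theorem genericPoint_component {ξ : X} (W : Closeds X) (hW : (W : Set X) = closure {ξ}) :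
    ∃ _ : IrreducibleSpace (Scheme.IdealSheafData.vanishingIdeal W).subscheme,
      (Scheme.IdealSheafData.vanishingIdeal W).subschemeι
        (genericPoint (Scheme.IdealSheafData.vanishingIdeal W).subscheme) = ξ := by
  let I := Scheme.IdealSheafData.vanishingIdeal W
  let ι := I.subschemeι
  have hr : Set.range ι = closure {ξ} := (range_subschemeι_vanishingIdeal W).trans hW
  haveI hirr : IrreducibleSpace I.subscheme := by
    have hirr : IrreducibleSpace (Set.range ι) := Subtype.irreducibleSpace (hr ▸ isIrreducible_singleton.closure)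
    exact (Homeomorph.irreducibleSpace_iff ι.isEmbedding.toHomeomorph).2 hirr
  refine ⟨hirr, ?_⟩
  obtain ⟨g, hg⟩ : ξ ∈ Set.range ι := by rw [hr]; exact subset_closure rfl
  have h1 : ι (genericPoint I.subscheme) ⤳ ξ := hg ▸ (genericPoint_specializes g).map ι.continuous
  have h2 : ξ ⤳ ι (genericPoint I.subscheme) := specializes_iff_mem_closure.2 (hr ▸ ⟨_, rfl⟩)
  exact (h1.antisymm h2).eq

theorem mapTrdeg_component (f : X ⟶ Y) (W : Closeds X) (w : ↥(Scheme.IdealSheafData.vanishingIdeal W).subscheme) :
    mapTrdeg ((Scheme.IdealSheafData.vanishingIdeal W).subschemeι ≫ f) w =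
      mapTrdeg f ((Scheme.IdealSheafData.vanishingIdeal W).subschemeι w) := by
  rw [FlatEquidim.mapTrdeg_comp, mapTrdeg_eq_zero (Scheme.IdealSheafData.vanishingIdeal W).subschemeι, add_zero]

/-- the fibres of the reduced scheme on `W` are the spaces `W ∩ f⁻¹ {y}` -/
noncomputable def fibreHomeo (f : X ⟶ Y) (W : Closeds X) (y : Y) :
    ↥(((Scheme.IdealSheafData.vanishingIdeal W).subschemeι ≫ f).base ⁻¹' {y}) ≃ₜ
      ↥((W : Set X) ∩ f.base ⁻¹' {y}) :=
  ((Scheme.IdealSheafData.vanishingIdeal W).subschemeι.isEmbedding.comp IsEmbedding.subtypeVal).toHomeomorph.trans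
    (Homeomorph.setCongr (by
      rw [Set.range_comp, Subtype.range_coe]
      ext a
      constructor
      · rintro ⟨b, hb, rfl⟩
        exact ⟨mem_of_subschemeι W b, hb⟩
      · rintro ⟨ha, ha'⟩
        rw [← range_subschemeι_vanishingIdeal W] at ha
        obtain ⟨b, rfl⟩ := ha
        exact ⟨b, ha', rfl⟩))

theorem dim_inter (f : X ⟶ Y) (W : Closeds X) (y : Y) :
    topologicalKrullDim ↥((W : Set X) ∩ f.base ⁻¹' {y}) =
      topologicalKrullDim ↥(((Scheme.IdealSheafData.vanishingIdeal W).subschemeι ≫ f).fiber y) := by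
  rw [← fiber_dim_eq]
  exact (fibreHomeo f W y).isHomeomorph.topologicalKrullDim_eq.symm

theorem localDim_inter (f : X ⟶ Y) (W : Closeds X) {x : X} {y : Y}
    (w : ↥(Scheme.IdealSheafData.vanishingIdeal W).subscheme)
    (hw : (Scheme.IdealSheafData.vanishingIdeal W).subschemeι w = x) (hy : f x = y)
    (hx : x ∈ (W : Set X) ∩ f.base ⁻¹' {y}) :
    FlatMor.localDim ↥((W : Set X) ∩ f.base ⁻¹' {y}) ⟨x, hx⟩ =
      FlatMor.fibreDimAt ((Scheme.IdealSheafData.vanishingIdeal W).subschemeι ≫ f) w := by
  subst hw hy
  rw [FibreDimChart.fibreDimAt_eq_localDim_preimage]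
  exact FieldExtLD.localDim_of_isOpenEmbedding
      (fibreHomeo f W (((Scheme.IdealSheafData.vanishingIdeal W).subschemeι ≫ f) w)).isOpenEmbedding ⟨w, rfl⟩

/-- an irreducible component is maximal -/
theorem isMax_of_closure_mem_components {a : Y} (h : closure ({a} : Set Y) ∈ irreducibleComponents (Y : Type u))
    {w : Y} (hw : w ⤳ a) : w = a :=
  (hw.antisymm (specializes_iff_mem_closure.2
    (h.2 isIrreducible_singleton.closure hw.closure_subset (subset_closure rfl)))).eq

end Groth.Agent.EquidimChart
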