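import Groth.Agent.EquidimChart.Crit
import Groth.Agent.FieldExtDim.Equidim
import Groth.Agent.EquidimChart.DimEq
import Groth.Agent.VCov.Basic
import Groth.Agent.FlatMorLib.FiberPoints
import Groth.Agent.FlatMorLib.MaxPoints

/-!
Universally open morphisms lift generizations without dropping fibre dimension.
-/

set_option autoImplicit false
set_option linter.style.haveILetI false
set_option backward.isDefEq.respectTransparency.types false

universe u

open CategoryTheory CategoryTheory.Limits AlgebraicGeometry TopologicalSpace Groth.Agent.DimTheory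

namespace Groth.Agent.EquidimChart

theorem exists_smul_unit_coeff {R : Type u} [CommRing R] [IsDomain R] [ValuationRing R] {σ : Type u}
    (Q : MvPolynomial σ R) (hQ : Q ≠ 0) :
    ∃ (c : R) (Q1 : MvPolynomial σ R), Q = MvPolynomial.C c * Q1 ∧ ∃ d, IsUnit (Q1.coeff d) := by
  classical
  have key : ∀ s : Finset (σ →₀ ℕ), s.Nonempty → ∃ d ∈ s, ∀ e ∈ s, Q.coeff d ∣ Q.coeff e := by
    intro s hs
    induction hs using Finset.Nonempty.cons_induction with
    | singleton a => exact ⟨a, Finset.mem_singleton_self a, fun e he => by rw [Finset.mem_singleton.1 he]⟩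
    | cons a s ha hs ih =>
      obtain ⟨d, hd, hdiv⟩ := ih
      rcases ValuationRing.iff_dvd_total.1 (inferInstance : ValuationRing R) |>.total (Q.coeff a) (Q.coeff d) with h | h
      · refine ⟨a, Finset.mem_cons_self a s, fun e he => ?_⟩
        rcases Finset.mem_cons.1 he with rfl | he
        · exact dvd_rfl
        · exact h.trans (hdiv e he)
      · refine ⟨d, Finset.mem_cons_of_mem hd, fun e he => ?_⟩
        rcases Finset.mem_cons.1 he with rfl | he
        · exact h
        · exact hdiv e he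
  obtain ⟨d, hd, hdiv⟩ := key Q.support (MvPolynomial.support_nonempty.2 hQ)
  have hc : MvPolynomial.C (Q.coeff d) ∣ Q := (MvPolynomial.C_dvd_iff_dvd_coeff _ _).2 fun e => by
    by_cases he : e ∈ Q.support
    · exact hdiv e he
    · rw [MvPolynomial.notMem_support_iff.1 he]; exact dvd_zero _
  obtain ⟨Q1, hQ1⟩ := hc
  refine ⟨_, Q1, hQ1, d, ?_⟩
  have hd0 : Q.coeff d ≠ 0 := MvPolynomial.mem_support_iff.1 hd
  have h1 := congrArg (MvPolynomial.coeff d) hQ1
  rw [MvPolynomial.coeff_C_mul] at h1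
  have h2 : Q1.coeff d = 1 := mul_left_cancel₀ hd0 (by rw [mul_one]; exact h1.symm)
  rw [h2]
  exact isUnit_one

/-- specialization to the closed point of a valuation ring does not increase transcendence degree -/
theorem trdeg_quot_le {R B : Type u} [CommRing R] [IsDomain R] [ValuationRing R] [CommRing B] [Algebra R B]
    (P' P : Ideal B) [P'.IsPrime] [P.IsPrime] [P'.LiesOver (⊥ : Ideal R)] [P.LiesOver (IsLocalRing.maximalIdeal R)]
    (hle : P' ≤ P) :
    Algebra.trdeg (R ⧸ IsLocalRing.maximalIdeal R) (B ⧸ P) ≤ Algebra.trdeg (R ⧸ (⊥ : Ideal R)) (B ⧸ P') := by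
  let m := IsLocalRing.maximalIdeal R
  have hinj : Function.Injective (algebraMap R (B ⧸ P')) := by
    rw [injective_iff_map_eq_zero]
    intro a ha
    have h : a ∈ (⊥ : Ideal R) := by
      rw [P'.over_def (⊥ : Ideal R), Ideal.mem_comap]
      exact Ideal.Quotient.eq_zero_iff_mem.1 ha
    exact h
  rw [Algebra.trdeg]
  refine ciSup_le' fun ⟨s, hs⟩ => ?_
  let lift : s → B := fun i => Function.surjInv Ideal.Quotient.mk_surjective i.1
  have hlift : ∀ i : s, Ideal.Quotient.mk P (lift i) = i.1 := fun i => Function.surjInv_eq _ _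
  have hind : AlgebraicIndependent (R ⧸ (⊥ : Ideal R)) (fun i : s => Ideal.Quotient.mk P' (lift i)) := by
    rw [algebraicIndependent_iff]
    intro Q' hQ'
    obtain ⟨Q, rfl⟩ := MvPolynomial.map_surjective (Ideal.Quotient.mk (⊥ : Ideal R)) Ideal.Quotient.mk_surjective Q'
    have hQ : MvPolynomial.aeval (fun i : s => Ideal.Quotient.mk P' (lift i)) Q = 0 := by
      rw [MvPolynomial.aeval_def, MvPolynomial.eval₂_map] at hQ'
      exact hQ'
    suffices Q = 0 by rw [this, map_zero]
    by_contra hne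
    obtain ⟨c, Q1, hQ1, d, hd⟩ := exists_smul_unit_coeff Q hne
    have hc : c ≠ 0 := fun h => hne (by rw [hQ1, h, map_zero, zero_mul])
    rw [hQ1, map_mul, MvPolynomial.aeval_C] at hQ
    have h1 : MvPolynomial.aeval (fun i : s => Ideal.Quotient.mk P' (lift i)) Q1 = 0 :=
      (mul_eq_zero.1 hQ).resolve_left fun h => hc (hinj (h.trans (map_zero _).symm))
    have h2 : MvPolynomial.aeval lift Q1 ∈ P' := by
      rw [← Ideal.Quotient.eq_zero_iff_mem, ← Ideal.Quotient.mkₐ_eq_mk R, ← AlgHom.comp_apply, MvPolynomial.comp_aeval, ← h1]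
      rfl
    have h3 : MvPolynomial.aeval (fun i : s => (i : B ⧸ P)) (Q1.map (Ideal.Quotient.mk m)) = 0 := by
      have h4 := Ideal.Quotient.eq_zero_iff_mem.2 (hle h2)
      rw [← Ideal.Quotient.mkₐ_eq_mk R, ← AlgHom.comp_apply, MvPolynomial.comp_aeval] at h4
      rw [MvPolynomial.aeval_def, MvPolynomial.eval₂_map, ← h4]
      congr 1
      funext i
      exact (hlift i).symm
    have h5 := congrArg (MvPolynomial.coeff d) (algebraicIndependent_iff.1 hs _ h3)
    rw [MvPolynomial.coeff_map, MvPolynomial.coeff_zero] at h5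
    exact (hd.map (Ideal.Quotient.mk m)).ne_zero h5
  exact hind.cardinalMk_le_trdeg

variable {X Y : Scheme.{u}}

theorem mapTrdeg_eq_trdeg (f : X ⟶ Y) {V : Y.Opens} (hV : IsAffineOpen V) {U : X.Opens} (hU : IsAffineOpen U)
    (hle : U ≤ f ⁻¹ᵁ V) {z : X} (hz : z ∈ U) :
    letI := (f.appLE V U hle).hom.toAlgebra
    ∀ (q : Ideal Γ(Y, V)) [q.IsPrime] [(hU.primeIdealOf ⟨z, hz⟩).asIdeal.LiesOver q],
      mapTrdeg f z = Algebra.trdeg (Γ(Y, V) ⧸ q) (Γ(X, U) ⧸ (hU.primeIdealOf ⟨z, hz⟩).asIdeal) := by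
  letI := (f.appLE V U hle).hom.toAlgebra
  intro q _ _
  letI : Algebra Γ(Y, V) (Y.residueField (f z)) := (Y.presheaf.germ V (f z) (hle hz) ≫ Y.residue (f z)).hom.toAlgebra
  letI : Algebra Γ(X, U) (X.residueField z) := (X.presheaf.germ U z hz ≫ X.residue z).hom.toAlgebra
  letI : Algebra (Y.residueField (f z)) (X.residueField z) := (f.residueFieldMap z).hom.toAlgebra
  exact trdeg_quot (K := Y.residueField (f z)) (L := X.residueField z)
    (FlatEquidim.evaluation_comp f hle hz) (exists_eq_div hV (hle hz))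
    (exists_eq_div hU hz) q _ (ker_evaluation hU hz)

theorem mapTrdeg_baseChange_of_fibreMax {X' Y' : Scheme.{u}} (f : X ⟶ Y) [LocallyOfFiniteType f] {g : Y' ⟶ Y}
    {f' : X' ⟶ Y'} {g' : X' ⟶ X} (hc : IsPullback g' f' f g) {x' : X'} (hx' : FlatEquidim.IsFibreMax f' x') :
    ∃ n : ℕ, mapTrdeg f' x' = n ∧ mapTrdeg f (g' x') = n ∧ FlatEquidim.IsFibreMax f (g' x') := by
  haveI : LocallyOfFiniteType f' := MorphismProperty.of_isPullback hc inferInstance
  letI : Algebra (Y.residueField (g (f' x'))) (Y'.residueField (f' x')) := (g.residueFieldMap (f' x')).hom.toAlgebra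
  let q := f.fiberToSpecResidueField (g (f' x'))
  haveI : LocallyOfFiniteType q := MorphismProperty.pullback_snd _ _ inferInstance
  have h := isPullback_fiberToSpecResidueField_of_isPullback hc (f' x')
  let e := h.isoPullback
  let b := Spec.map (CommRingCat.ofHom (algebraMap (Y.residueField (g (f' x'))) (Y'.residueField (f' x'))))
  haveI : LocallyOfFiniteType (pullback.snd q b) := MorphismProperty.pullback_snd _ _ inferInstance
  let z := f'.asFiber x'
  have hz : ∀ w, w ⤳ z → w = z := (asFiber_max_iff f' x').2 hx'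
  have hmax : ∀ v, v ⤳ e.hom z → v = e.hom z := fun v hv => by
    obtain ⟨v, rfl⟩ := e.hom.homeomorph.surjective v
    exact congrArg e.hom (hz v (e.hom.homeomorph.isInducing.specializes_iff.1 hv))
  obtain ⟨h1, h2⟩ := FieldExtDim.height_of_isMax (k := Y.residueField (g (f' x')))
    (K := Y'.residueField (f' x')) q (e.hom z) hmax
  have h3 := FieldExtDim.height_openImmersion (F := Y'.residueField (f' x')) (pullback.snd q b) e.hom z
  let z0 := pullback.fst q b (e.hom z)
  have hz0 : f.fiberι (g (f' x')) z0 = g' x' := by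
    show f.fiberι (g (f' x')) (pullback.fst q b (e.hom z)) = _
    have he : pullback.fst q b (e.hom z) = _ := congr($(h.isoPullback_hom_fst) z)
    rw [he]
    refine (Scheme.Hom.comp_apply _ _ _).symm.trans ?_
    conv_rhs => rw [← f'.fiberι_asFiber x', ← Scheme.Hom.comp_apply]
    exact congrArg (fun q : f'.fiber (f' x') ⟶ X => q (f'.asFiber x')) (pullback.lift_fst _ _ _)
  obtain ⟨n, hn, hn'⟩ := height_asFiber f' x'
  obtain ⟨m, hm, hm'⟩ := exists_height_eq (k := Y.residueField (g (f' x'))) q z0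
  rw [FlatEquidim.resTrdeg_fiber_eq, hz0] at hm
  have hnm : n = m := Nat.cast_injective (R := ℕ∞) (hn'.symm.trans ((h3.symm.trans h2).trans hm'))
  refine ⟨n, hn, hnm ▸ hm, fun w hw hfw => ?_⟩
  have hfz : f (g' x') = g (f' x') := by rw [← hz0, FlatEquidim.fiberι_apply_eq]
  rw [← hz0]
  exact FlatDim.eq_fiberι_of_isMax f h1 (hz0.symm ▸ hw) (hfw.trans hfz)

/-- over a valuation ring the transcendence degree does not grow under specialization -/
theorem trdeg_le_of_valuation {W : CommRingCat.{u}} [IsDomain W] [ValuationRing W] {P : Scheme.{u}} (p2 : P ⟶ Spec W)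
    {x' y' : P} (hy'x : y' ⤳ x') (hx'c : p2 x' = IsLocalRing.closedPoint W)
    (hy'g : p2 y' = ⟨⊥, Ideal.isPrime_bot⟩) {n k : ℕ} (hn' : mapTrdeg p2 x' = n) (hk' : mapTrdeg p2 y' = k) :
    n ≤ k := by
  let gp : Spec W := ⟨⊥, Ideal.isPrime_bot⟩
  let V : (Spec W).Opens := ⊤
  have hV : IsAffineOpen V := isAffineOpen_top _
  obtain ⟨U, hU, hxU, -⟩ := exists_isAffineOpen_mem_and_subset (X := P) (x := x') (U := ⊤) trivial
  have hle : U ≤ p2 ⁻¹ᵁ V := fun _ _ => trivial
  have hyU : y' ∈ U := hy'x.mem_open U.isOpen hxU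
  letI := (p2.appLE V U hle).hom.toAlgebra
  let R := Γ(Spec W, V)
  let eR : W ≅ R := (Scheme.ΓSpecIso W).symm
  haveI : IsDomain R := eR.commRingCatIsoToRingEquiv.symm.toMulEquiv.isDomain W
  haveI : ValuationRing R :=
    Function.Surjective.valuationRing (eR.commRingCatIsoToRingEquiv.toRingHom) eR.commRingCatIsoToRingEquiv.surjective
  have hoverx : (hU.primeIdealOf ⟨x', hxU⟩).asIdeal.comap (p2.appLE V U hle).hom = (hV.primeIdealOf ⟨p2 x', trivial⟩).asIdeal :=
    congrArg PrimeSpectrum.asIdeal (IsAffineOpen.comap_primeIdealOf_appLE (f := p2) V hV U hU hle hxU)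
  have hovery : (hU.primeIdealOf ⟨y', hyU⟩).asIdeal.comap (p2.appLE V U hle).hom = (hV.primeIdealOf ⟨p2 y', trivial⟩).asIdeal :=
    congrArg PrimeSpectrum.asIdeal (IsAffineOpen.comap_primeIdealOf_appLE (f := p2) V hV U hU hle hyU)
  have hq1 : (hV.primeIdealOf ⟨p2 x', trivial⟩).asIdeal = IsLocalRing.maximalIdeal R := by
    refine IsLocalRing.eq_maximalIdeal ?_
    refine Ideal.isMaximal_def.2 ⟨Ideal.IsPrime.ne_top inferInstance, fun J hJ => ?_⟩
    by_contra hne
    obtain ⟨M, hM, hJM⟩ := Ideal.exists_le_maximal J hne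
    let Mp : PrimeSpectrum R := ⟨M, hM.isPrime⟩
    have h1 : hV.primeIdealOf ⟨p2 x', trivial⟩ ≤ Mp := hJ.le.trans hJM
    have h2 := ((PrimeSpectrum.le_iff_specializes _ _).1 h1).map hV.fromSpec.continuous
    rw [hV.fromSpec_primeIdealOf] at h2
    have h3 : hV.fromSpec Mp = p2 x' := by
      rw [show p2 x' = IsLocalRing.closedPoint W from hx'c] at h2 ⊢
      exact ((VCov.specializes_closedPt _).antisymm h2).eq
    have h4 : Mp = hV.primeIdealOf ⟨p2 x', trivial⟩ :=
      hV.fromSpec.isOpenEmbedding.injective (h3.trans (hV.fromSpec_primeIdealOf ⟨p2 x', trivial⟩).symm)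
    exact hJ.not_ge (by rw [← h4]; exact hJM)
  have hq2 : (hV.primeIdealOf ⟨p2 y', trivial⟩).asIdeal = ⊥ := by
    let Bp : PrimeSpectrum R := ⟨⊥, Ideal.isPrime_bot⟩
    have h1 : Bp ≤ hV.primeIdealOf ⟨p2 y', trivial⟩ := bot_le (a := (hV.primeIdealOf ⟨p2 y', trivial⟩).asIdeal)
    have h2 := ((PrimeSpectrum.le_iff_specializes _ _).1 h1).map hV.fromSpec.continuous
    rw [hV.fromSpec_primeIdealOf] at h2
    have h3 : hV.fromSpec Bp = p2 y' := by
      rw [show p2 y' = gp from hy'g] at h2 ⊢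
      exact (h2.antisymm ((PrimeSpectrum.le_iff_specializes gp _).1 bot_le)).eq
    exact (congrArg PrimeSpectrum.asIdeal
      (hV.fromSpec.isOpenEmbedding.injective (h3.trans (hV.fromSpec_primeIdealOf ⟨p2 y', trivial⟩).symm))).symm
  haveI : (hU.primeIdealOf ⟨x', hxU⟩).asIdeal.LiesOver (IsLocalRing.maximalIdeal R) := ⟨(hoverx.trans hq1).symm⟩
  haveI : (hU.primeIdealOf ⟨y', hyU⟩).asIdeal.LiesOver (⊥ : Ideal R) := ⟨(hovery.trans hq2).symm⟩
  have e1 := mapTrdeg_eq_trdeg p2 hV hU hle hxU (IsLocalRing.maximalIdeal R)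
  have e2 := mapTrdeg_eq_trdeg p2 hV hU hle hyU (⊥ : Ideal R)
  have h5 := trdeg_quot_le (R := R) (hU.primeIdealOf ⟨y', hyU⟩).asIdeal (hU.primeIdealOf ⟨x', hxU⟩).asIdeal
    ((FlatEquidim.specializes_iff_le hU hxU hyU).1 hy'x)
  rw [← e1, hn'] at h5
  rw [← e2, hk'] at h5
  exact_mod_cast h5

/-- a point of a base change over a point maximal in its fibre, with the same transcendence degree -/
theorem exists_baseChange_point {X' Y' : Scheme.{u}} (f : X ⟶ Y) [LocallyOfFiniteType f] {g : Y' ⟶ Y}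
    {f' : X' ⟶ Y'} {g' : X' ⟶ X} (hc : IsPullback g' f' f g) {x : X} (hx : FlatEquidim.IsFibreMax f x)
    {y' : Y'} (hy' : g y' = f x) :
    ∃ (x' : X') (n : ℕ), g' x' = x ∧ f' x' = y' ∧ FlatEquidim.IsFibreMax f' x' ∧
      mapTrdeg f' x' = n ∧ mapTrdeg f x = n := by
  haveI : LocallyOfFiniteType f' := MorphismProperty.of_isPullback hc inferInstance
  obtain ⟨x0, hx0a, hx0b⟩ := Scheme.Pullback.exists_preimage_pullback (f := f) (g := g) x y' hy'.symm
  let x1 : X' := hc.isoPullback.inv x0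
  have hx1a : g' x1 = x := (congr($(hc.isoPullback_inv_fst) x0)).trans hx0a
  have hx1b : f' x1 = y' := (congr($(hc.isoPullback_inv_snd) x0)).trans hx0b
  obtain ⟨z, hzx, hzmax⟩ := FlatMorLib.exists_maximal_generization (f'.asFiber x1)
  let x' := f'.fiberι (f' x1) z
  have hx'1 : x' ⤳ x1 := by
    have := hzx.map (f'.fiberι (f' x1)).continuous
    rwa [f'.fiberι_asFiber] at this
  have hx'c : f' x' = y' := (FlatEquidim.fiberι_apply_eq f' _ z).trans hx1b
  have hx'max : FlatEquidim.IsFibreMax f' x' := fun w hw hfw =>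
    FlatDim.eq_fiberι_of_isMax f' hzmax hw (hfw.trans (FlatEquidim.fiberι_apply_eq f' _ z))
  have hp1x : g' x' = x := by
    refine hx _ (hx1a ▸ hx'1.map g'.continuous) ?_
    show f (g' x') = f x
    rw [← Scheme.Hom.comp_apply, hc.w, Scheme.Hom.comp_apply, hx'c]
    exact hy'
  obtain ⟨n, hn', hn, -⟩ := mapTrdeg_baseChange_of_fibreMax f hc hx'max
  rw [hp1x] at hn
  exact ⟨x', n, hp1x, hx'c, hx'max, hn', hn⟩

/-- universally open morphisms lift generizations, keeping the fibre dimension -/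
theorem exists_generization (f : X ⟶ Y) [LocallyOfFiniteType f] [UniversallyOpen f] {x : X}
    (hx : FlatEquidim.IsFibreMax f x) {η : Y} (hη : η ⤳ f x) :
    ∃ (y : X) (n m : ℕ), y ⤳ x ∧ f y = η ∧ mapTrdeg f x = n ∧ mapTrdeg f y = m ∧ n ≤ m := by
  obtain ⟨W, _, _, m, hmc, hmg⟩ := VCov.exists_valuation_of_specializes hη
  haveI : IsDomain W := ‹_›
  let p2 := pullback.snd f m
  let p1 := pullback.fst f m
  have hc : IsPullback p1 p2 f m := IsPullback.of_hasPullback f m
  haveI : LocallyOfFiniteType p2 := MorphismProperty.pullback_snd _ _ inferInstance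
  haveI : UniversallyOpen p2 := MorphismProperty.pullback_snd _ _ inferInstance
  let c := IsLocalRing.closedPoint W
  obtain ⟨x1, hx1a, hx1b⟩ := Scheme.Pullback.exists_preimage_pullback (f := f) (g := m) x c hmc.symm
  -- a maximal point of the fibre
  obtain ⟨z, hzx, hzmax⟩ := FlatMorLib.exists_maximal_generization (p2.asFiber x1)
  let x' := p2.fiberι (p2 x1) z
  have hx'1 : x' ⤳ x1 := by
    have := hzx.map (p2.fiberι (p2 x1)).continuous
    rwa [p2.fiberι_asFiber] at this
  have hx'c : p2 x' = c := (FlatEquidim.fiberι_apply_eq p2 _ z).trans hx1b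
  have hx'max : FlatEquidim.IsFibreMax p2 x' := fun w hw hfw =>
    FlatDim.eq_fiberι_of_isMax p2 hzmax hw (hfw.trans (FlatEquidim.fiberι_apply_eq p2 _ z))
  have hp1x : p1 x' = x := by
    refine hx _ (hx1a ▸ hx'1.map p1.continuous) ?_
    show f (p1 x') = f x
    rw [← Scheme.Hom.comp_apply, hc.w, Scheme.Hom.comp_apply, hx'c]
    exact hmc
  obtain ⟨n, hn', hn, -⟩ := mapTrdeg_baseChange_of_fibreMax f hc hx'max
  rw [hp1x] at hn
  -- generize over the generic point
  let gp : Spec W := ⟨⊥, Ideal.isPrime_bot⟩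
  have hgen := FpqcDescent.generalizingMap_of_isOpenMap p2 p2.isOpenMap
  obtain ⟨y1, hy1x, hy1⟩ := hgen (show gp ⤳ p2 x' from hx'c ▸ VCov.specializes_closedPt gp)
  obtain ⟨w, hwy, hwmax⟩ := FlatMorLib.exists_maximal_generization (p2.asFiber y1)
  let y' := p2.fiberι (p2 y1) w
  have hy'x : y' ⤳ x' := by
    have := hwy.map (p2.fiberι (p2 y1)).continuous
    rw [p2.fiberι_asFiber] at this
    exact this.trans hy1x
  have hy'g : p2 y' = gp := (FlatEquidim.fiberι_apply_eq p2 _ w).trans hy1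
  have hy'max : FlatEquidim.IsFibreMax p2 y' := fun v hv hfv =>
    FlatDim.eq_fiberι_of_isMax p2 hwmax hv (hfv.trans (FlatEquidim.fiberι_apply_eq p2 _ w))
  obtain ⟨k, hk', hk, -⟩ := mapTrdeg_baseChange_of_fibreMax f hc hy'max
  refine ⟨p1 y', n, k, hp1x ▸ hy'x.map p1.continuous, ?_, hn, hk, ?_⟩
  · rw [← Scheme.Hom.comp_apply, hc.w, Scheme.Hom.comp_apply, hy'g]
    exact hmg
  exact trdeg_le_of_valuation p2 hy'x hx'c hy'g hn' hk'

/-- transcendence degree grows under generization in a fibre -/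
theorem trdeg_mono (f : X ⟶ Y) [LocallyOfFiniteType f] {ξ y : X} (hsp : ξ ⤳ y) (hf : f ξ = f y) {m e : ℕ}
    (hm : mapTrdeg f y = m) (he : mapTrdeg f ξ = e) : m ≤ e := by
  haveI : LocallyOfFiniteType (f.fiberToSpecResidueField (f y)) := MorphismProperty.pullback_snd _ _ ‹_›
  obtain ⟨b, hb⟩ : ξ ∈ Set.range (f.fiberι (f y)) := by rw [f.range_fiberι]; exact hf
  obtain ⟨k, hk, hk'⟩ := exists_height_eq (k := Y.residueField (f y)) (f.fiberToSpecResidueField (f y)) b
  rw [FlatEquidim.resTrdeg_fiber_eq, hb, he] at hk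
  obtain rfl : e = k := Nat.cast_injective (R := Cardinal.{u}) hk
  obtain ⟨l, hl, hl'⟩ := height_asFiber f y
  obtain rfl : m = l := Nat.cast_injective (R := Cardinal.{u}) (hm.symm.trans hl)
  have h1 : b ⤳ f.asFiber y := (f.fiberι (f y)).isEmbedding.isInducing.specializes_iff.1 (by
    rw [hb, f.fiberι_asFiber]; exact hsp)
  have h2 := Order.height_mono (show f.asFiber y ≤ b from h1)
  rw [hl', hk'] at h2
  exact_mod_cast h2

end Groth.Agent.EquidimChart
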