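import Groth.Agent.EquidimChart.Basic

/-!
Criteria for equidimensionality of a morphism from an irreducible scheme.
-/

set_option autoImplicit false
set_option linter.style.haveILetI false
set_option backward.isDefEq.respectTransparency.types false

universe u

open CategoryTheory CategoryTheory.Limits AlgebraicGeometry TopologicalSpace Groth.Agent.DimTheory

namespace Groth.Agent.EquidimChart

variable {X Y : Scheme.{u}}

theorem exists_fibreMax (f : X ⟶ Y) [LocallyOfFiniteType f] (x : X) :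
    ∃ (z : X) (n : ℕ), z ⤳ x ∧ FlatEquidim.IsFibreMax f z ∧ mapTrdeg f z = n ∧
      FlatMor.fibreDimAt f x = (n : WithBot ℕ∞) := by
  have : LocallyOfFiniteType (f.fiberToSpecResidueField (f x)) := MorphismProperty.pullback_snd _ _ ‹_›
  obtain ⟨m, hle, hm, heq⟩ := exists_height_eq_add_coheight (k := Y.residueField (f x))
    (f.fiberToSpecResidueField (f x)) (f.asFiber x)
  obtain ⟨n, hn, hn'⟩ := exists_height_eq (k := Y.residueField (f x)) (f.fiberToSpecResidueField (f x)) m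
  rw [FlatEquidim.resTrdeg_fiber_eq] at hn
  refine ⟨f.fiberι (f x) m, n, ?_, ?_, hn, ?_⟩
  · have := (show m ⤳ f.asFiber x from hle).map (f.fiberι (f x)).continuous
    rwa [f.fiberι_asFiber] at this
  · intro z hz hfz
    refine FlatDim.eq_fiberι_of_isMax f (fun w hw => ?_) hz (hfz.trans (FlatEquidim.fiberι_apply_eq f _ m))
    exact (hw.antisymm (hm w hw)).eq
  · show FlatMor.localDim (f.fiber (f x)) (f.asFiber x) = _
    rw [FieldExtLD.localDim_eq (k := Y.residueField (f x)) (f.fiberToSpecResidueField (f x)), ← heq, hn']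
    rfl

theorem le_fibreDimAt (f : X ⟶ Y) [LocallyOfFiniteType f] {x : X} {m : ℕ} (hm : mapTrdeg f x = m) :
    (m : WithBot ℕ∞) ≤ FlatMor.fibreDimAt f x := by
  obtain ⟨n, hn, hn'⟩ := height_asFiber f x
  obtain rfl : m = n := Nat.cast_injective (R := Cardinal.{u}) (hm.symm.trans hn)
  have : LocallyOfFiniteType (f.fiberToSpecResidueField (f x)) := MorphismProperty.pullback_snd _ _ ‹_›
  show _ ≤ FlatMor.localDim (f.fiber (f x)) (f.asFiber x)
  rw [FieldExtLD.localDim_eq (k := Y.residueField (f x)) (f.fiberToSpecResidueField (f x)), hn']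
  exact WithBot.coe_le_coe.2 (le_add_right le_rfl)

theorem fibreDimAt_of_fibreMax (f : X ⟶ Y) [LocallyOfFiniteType f] {z : X} (hz : FlatEquidim.IsFibreMax f z)
    {m : ℕ} (hm : mapTrdeg f z = m) : FlatMor.fibreDimAt f z = (m : WithBot ℕ∞) := by
  obtain ⟨z', n, hz', hmax, hn, hd⟩ := exists_fibreMax f z
  by_cases h : f z' = f z
  · obtain rfl := hz z' hz' h
    rw [hd, Nat.cast_injective (R := Cardinal.{u}) (hm.symm.trans hn)]
  · have : LocallyOfFiniteType (f.fiberToSpecResidueField (f z)) := MorphismProperty.pullback_snd _ _ ‹_›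
    rw [AlgSpDesc.fibreDimAt_eq_stalk_add_resTrdeg, show Dual3.resTrdeg f z = mapTrdeg f z from rfl, hm,
      map_natCast, ringKrullDim_stalk_eq_coheight, Order.coheight_eq_zero.2 fun b hb => ?_, WithBot.coe_zero,
      zero_add]
    · rfl
    · exact le_of_eq ((asFiber_max_iff f z).2 hz b hb)

/-- semicontinuity -/
theorem le_of_specializes (f : X ⟶ Y) [LocallyOfFiniteType f] {ξ y : X} (h : ξ ⤳ y)
    (hξ : FlatEquidim.IsFibreMax f ξ) {e n : ℕ} (he : mapTrdeg f ξ = e)
    (hn : FlatMor.fibreDimAt f y ≤ (n : WithBot ℕ∞)) : e ≤ n := by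
  have h4 : FlatMor.fibreDimAt f ξ ≤ (n : WithBot ℕ∞) := h.mem_open (FibreDimChart.isOpen_fibreDimAt_le f n) hn
  rw [fibreDimAt_of_fibreMax f hξ he] at h4
  exact_mod_cast h4

/-- consequences of equidimensionality -/
theorem data_of_isEquidimAt (f : X ⟶ Y) [LocallyOfFiniteType f] {x : X} (h : EGA43.IsEquidimAt f x) :
    ∃ (e : ℕ) (U : X.Opens), x ∈ U ∧
      (∀ ξ : X, ξ ∈ U → (∀ z : X, z ⤳ ξ → z = ξ) → (∀ w : Y, w ⤳ f ξ → w = f ξ) ∧ f ξ ⤳ f x) ∧
      (∀ y ∈ U, FlatEquidim.IsFibreMax f y → mapTrdeg f y = e) ∧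
      ∀ y ∈ U, FlatMor.fibreDimAt f y = (e : WithBot ℕ∞) := by
  obtain ⟨e, U, hxU, hcomp, hdim⟩ := h
  obtain ⟨h1, h2⟩ := fibreDimAt_of_components f U e hdim
  refine ⟨e, U, hxU, fun ξ hξU hξ => ?_, h1, h2⟩
  let ξ0 : (U : Scheme.{u}) := ⟨ξ, hξU⟩
  have hξ0 : ∀ w : (U : Scheme.{u}), w ⤳ ξ0 → w = ξ0 := fun w hw =>
    U.ι.isEmbedding.injective (hξ _ (hw.map U.ι.continuous))
  obtain ⟨W, hW, hxW, hWc⟩ := hcomp _ (FlatDim.closure_mem_irreducibleComponents hξ0 :)
  have hWη : W = closure {f ξ} := by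
    rw [← hWc, closure_image_closure (U.ι ≫ f).continuous, Set.image_singleton]
    rfl
  subst hWη
  refine ⟨fun y hy => ?_, specializes_iff_mem_closure.2 hxW⟩
  have h2' := hW.2 isIrreducible_singleton.closure hy.closure_subset
  exact (hy.antisymm (specializes_iff_mem_closure.2 (h2' (subset_closure rfl)))).eq

/-- criterion on an irreducible scheme -/
theorem isEquidimAt_of_bound [IrreducibleSpace X] (f : X ⟶ Y) [LocallyOfFiniteType f] (x : X) (e : ℕ)
    (hη : ∀ w : Y, w ⤳ f (genericPoint X) → w = f (genericPoint X))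
    (he : mapTrdeg f (genericPoint X) = e) (hx : FlatMor.fibreDimAt f x ≤ (e : WithBot ℕ∞)) :
    EGA43.IsEquidimAt f x := by
  let U : X.Opens := ⟨_, FibreDimChart.isOpen_fibreDimAt_le f e⟩
  have hmax : ∀ z, z ⤳ genericPoint X → z = genericPoint X := FlatDim.genericPoint_isMax
  refine ⟨e, U, hx, fun Z hZ => ?_, ?_⟩
  · have hZ' : Z ∈ irreducibleComponents (↥(U : Scheme.{u}) : Type u) := hZ
    let ξ : (U : Scheme.{u}) := hZ'.1.genericPoint
    have hgen : U.ι ξ = genericPoint X := FlatDim.eq_genericPoint (isMax_of_open U ξ (mem_component_isMax hZ'))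
    refine ⟨closure {f (genericPoint X)}, FlatDim.closure_mem_irreducibleComponents hη, ?_, ?_⟩
    · exact specializes_iff_mem_closure.1 ((genericPoint_specializes x).map f.continuous)
    · rw [← component_eq_closure hZ', closure_image_closure (U.ι ≫ f).continuous, Set.image_singleton, ← hgen]
      rfl
  · refine (forall_fibre_components_iff (U.ι ≫ f) e).2 fun y hy => ?_
    rw [isFibreMax_restrict] at hy
    rw [mapTrdeg_restrict]
    obtain ⟨n, hn, -⟩ := height_asFiber f (U.ι y)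
    have hb : FlatMor.fibreDimAt f (U.ι y) ≤ (e : WithBot ℕ∞) := y.2
    have h1 : e ≤ n := le_of_specializes f (genericPoint_specializes _) (fun z hz _ => hmax z hz) he
      (fibreDimAt_of_fibreMax f hy hn).le
    have h2 : n ≤ e := by
      have := (le_fibreDimAt f hn).trans hb
      exact_mod_cast this
    rw [hn, le_antisymm h2 h1]

/-- a component, reduced, near `x` -/
theorem isEquidimAt_vanishingIdeal (f : X ⟶ Y) [LocallyOfFiniteType f] (x ξ : X) (W : Closeds X)
    (hW : (W : Set X) = closure {ξ}) (e : ℕ) (hx : ξ ⤳ x)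
    (hη : ∀ w : Y, w ⤳ f ξ → w = f ξ) (he : mapTrdeg f ξ = e)
    (hb : FlatMor.fibreDimAt f x ≤ (e : WithBot ℕ∞)) :
    ∃ w : ↥((Scheme.IdealSheafData.vanishingIdeal W).subscheme),
      (Scheme.IdealSheafData.vanishingIdeal W).subschemeι.base w = x ∧
      EGA43.IsEquidimAt ((Scheme.IdealSheafData.vanishingIdeal W).subschemeι ≫ f) w := by
  let I := Scheme.IdealSheafData.vanishingIdeal W
  let ι := I.subschemeι
  have hr : Set.range ι = closure {ξ} := by
    rw [I.range_subschemeι, Scheme.IdealSheafData.coe_support_vanishingIdeal, hW]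
  obtain ⟨w, hw⟩ : x ∈ Set.range ι := by rw [hr]; exact specializes_iff_mem_closure.1 hx
  haveI : IrreducibleSpace I.subscheme := by
    have hirr : IrreducibleSpace (Set.range ι) := Subtype.irreducibleSpace (hr ▸ isIrreducible_singleton.closure)
    exact (Homeomorph.irreducibleSpace_iff ι.isEmbedding.toHomeomorph).2 hirr
  have hg : ι (genericPoint I.subscheme) = ξ := by
    obtain ⟨g, hg⟩ : ξ ∈ Set.range ι := by rw [hr]; exact subset_closure rfl
    have h1 : ι (genericPoint I.subscheme) ⤳ ξ := hg ▸ (genericPoint_specializes g).map ι.continuous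
    have h2 : ξ ⤳ ι (genericPoint I.subscheme) := specializes_iff_mem_closure.2 (hr ▸ ⟨_, rfl⟩)
    exact (h1.antisymm h2).eq
  refine ⟨w, hw, isEquidimAt_of_bound (ι ≫ f) w e ?_ ?_ ?_⟩
  · intro z hz
    have := hη z (by rwa [Scheme.Hom.comp_apply, hg] at hz)
    rw [Scheme.Hom.comp_apply, hg, this]
  · rw [FlatEquidim.mapTrdeg_comp, mapTrdeg_eq_zero ι, add_zero, hg, he]
  · obtain ⟨z, n, hz, hmax, hn, hd⟩ := exists_fibreMax (ι ≫ f) w
    rw [FlatEquidim.mapTrdeg_comp, mapTrdeg_eq_zero ι, add_zero] at hn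
    have hxU : ι w ∈ {y | FlatMor.fibreDimAt f y ≤ (e : WithBot ℕ∞)} := by rw [hw]; exact hb
    have hz' : FlatMor.fibreDimAt f (ι z) ≤ (e : WithBot ℕ∞) :=
      (hz.map ι.continuous).mem_open (FibreDimChart.isOpen_fibreDimAt_le f e) hxU
    rw [hd]
    exact_mod_cast (le_fibreDimAt f hn).trans hz'

theorem isEquidimAt_of_data (f : X ⟶ Y) [LocallyOfFiniteType f] (x : X) (e : ℕ) (U : X.Opens) (hxU : x ∈ U)
    (h1 : ∀ ξ : X, ξ ∈ U → (∀ z : X, z ⤳ ξ → z = ξ) → (∀ w : Y, w ⤳ f ξ → w = f ξ) ∧ f ξ ⤳ f x)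
    (h2 : ∀ y ∈ U, FlatEquidim.IsFibreMax f y → mapTrdeg f y = e) : EGA43.IsEquidimAt f x := by
  refine ⟨e, U, hxU, fun Z hZ => ?_, ?_⟩
  · have hZ' : Z ∈ irreducibleComponents (↥(U : Scheme.{u}) : Type u) := hZ
    let ξ : (U : Scheme.{u}) := hZ'.1.genericPoint
    obtain ⟨hη, hηx⟩ := h1 (U.ι ξ) ξ.2 (isMax_of_open U ξ (mem_component_isMax hZ'))
    refine ⟨closure {f (U.ι ξ)}, FlatDim.closure_mem_irreducibleComponents hη,
      specializes_iff_mem_closure.1 hηx, ?_⟩
    rw [← component_eq_closure hZ', closure_image_closure (U.ι ≫ f).continuous, Set.image_singleton]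
    rfl
  · refine (forall_fibre_components_iff (U.ι ≫ f) e).2 fun y hy => ?_
    rw [isFibreMax_restrict] at hy
    rw [mapTrdeg_restrict]
    exact h2 _ y.2 hy

/-- on a locally Noetherian scheme, a point has a neighbourhood in which all maximal points generize it -/
theorem exists_nbhd_max_specializes [IsLocallyNoetherian X] {x : X} {U : X.Opens} (hx : x ∈ U) :
    ∃ U' : X.Opens, x ∈ U' ∧ U' ≤ U ∧ ∀ ξ ∈ U', (∀ z : X, z ⤳ ξ → z = ξ) → ξ ⤳ x := by
  obtain ⟨U1, hU1, hxU1, hU1U⟩ := exists_isAffineOpen_mem_and_subset (X := X) hx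
  let x1 : (U1 : Scheme.{u}) := ⟨x, hxU1⟩
  haveI : IsAffine U1 := hU1
  haveI : IsNoetherian (U1 : Scheme.{u}) := {}
  have hfin : {Z ∈ irreducibleComponents (↥(U1 : Scheme.{u}) : Type u) | x1 ∉ Z}.Finite :=
    NoetherianSpace.finite_irreducibleComponents.subset fun Z hZ => hZ.1
  let B : Set (U1 : Scheme.{u}) := ⋃ Z ∈ {Z ∈ irreducibleComponents (↥(U1 : Scheme.{u}) : Type u) | x1 ∉ Z}, Z
  have hB : IsClosed B := hfin.isClosed_biUnion fun Z hZ => isClosed_of_mem_irreducibleComponents Z hZ.1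
  have hxB : x1 ∉ B := fun h => by
    obtain ⟨Z, hZ, hxZ⟩ := Set.mem_iUnion₂.1 h
    exact hZ.2 hxZ
  refine ⟨U1.ι ''ᵁ ⟨Bᶜ, hB.isOpen_compl⟩, ⟨x1, hxB, rfl⟩, (U1.ι_image_le _).trans hU1U, ?_⟩
  rintro ξ ⟨ξ1, hξ1, rfl⟩ hξ
  have hm : ∀ w : (U1 : Scheme.{u}), w ⤳ ξ1 → w = ξ1 := fun w hw =>
    U1.ι.isEmbedding.injective (hξ _ (hw.map U1.ι.continuous))
  by_contra hn
  refine hξ1 (Set.mem_iUnion₂.2 ⟨closure {ξ1}, ⟨FlatDim.closure_mem_irreducibleComponents hm, fun hx => hn ?_⟩,
    subset_closure rfl⟩)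
  exact (specializes_iff_mem_closure.2 hx).map U1.ι.continuous

/-- maximal points of a flat base change lie over maximal points of the base -/
theorem isMax_baseChange {X' Y' : Scheme.{u}} (f : X ⟶ Y) [LocallyOfFiniteType f] {g : Y' ⟶ Y} {f' : X' ⟶ Y'}
    {g' : X' ⟶ X} (hc : IsPullback g' f' f g) {ξ' : X'} (hξ' : ∀ z : X', z ⤳ ξ' → z = ξ')
    (hη : ∀ w : Y, w ⤳ f (g' ξ') → w = f (g' ξ')) : ∀ w : Y', w ⤳ f' ξ' → w = f' ξ' := by
  intro w hw
  have hfg : g (f' ξ') = f (g' ξ') := congr($(hc.w.symm) ξ')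
  have hgw : g w = f (g' ξ') := hη _ (hfg ▸ hw.map g.continuous)
  let η := f (g' ξ')
  let i := g.fiberι η
  let Q := pullback f' i
  have htop : IsPullback (pullback.fst f' i ≫ g') (pullback.snd f' i) f (i ≫ g) :=
    (IsPullback.of_hasPullback f' i).paste_horiz hc
  rw [show i ≫ g = g.fiberToSpecResidueField η ≫ Y.fromSpecResidueField η from g.fiber_fac η] at htop
  have hf : IsPullback (f.fiberι η) (f.fiberToSpecResidueField η) f (Y.fromSpecResidueField η) :=
    IsPullback.of_hasPullback f (Y.fromSpecResidueField η)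
  haveI : LocallyOfFiniteType (f.fiberToSpecResidueField η) := MorphismProperty.pullback_snd _ _ ‹_›
  haveI : Flat (f.fiberToSpecResidueField η) := inferInstance
  haveI : LocallyOfFinitePresentation (f.fiberToSpecResidueField η) := inferInstance
  haveI : UniversallyOpen (f.fiberToSpecResidueField η) := inferInstance
  haveI : UniversallyOpen (pullback.snd f' i) :=
    MorphismProperty.of_isPullback (P := @UniversallyOpen)
      (htop.of_right' hf) inferInstance
  have hgen := FpqcDescent.generalizingMap_of_isOpenMap (pullback.snd f' i) (pullback.snd f' i).isOpenMap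
  obtain ⟨a, ha⟩ : f' ξ' ∈ Set.range i := by rw [g.range_fiberι]; exact hfg
  obtain ⟨b, hb⟩ : w ∈ Set.range i := by rw [g.range_fiberι]; exact hgw
  obtain ⟨q, hq1, hq2⟩ := Scheme.Pullback.exists_preimage_pullback (f := f') (g := i) ξ' a ha.symm
  have hba : b ⤳ a := i.isEmbedding.isInducing.specializes_iff.1 (by rw [ha, hb]; exact hw)
  obtain ⟨q', hq', hq'b⟩ := hgen (show b ⤳ pullback.snd f' i q by rw [hq2]; exact hba)
  have h1 : pullback.fst f' i q' = ξ' := hξ' _ (hq1 ▸ hq'.map (pullback.fst f' i).continuous)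
  rw [← hb, ← hq'b, ← h1]
  exact (congr($(pullback.condition (f := f') (g := i)) q')).symm

end Groth.Agent.EquidimChart
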