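import Groth.Prelude.Def_EGA43
import Groth.Agent.FlatEquidim.Scheme
import Groth.Agent.FlatDim.Basic
import Groth.Agent.FibreDimChart.Basic
import Groth.Agent.AlgSpDesc.ResTrdeg
import Groth.Agent.FpqcDescent.Specialization
import Mathlib

/-!
Equidimensional morphisms near a point and quasi-finite morphisms to affine space.
-/

set_option autoImplicit false
set_option linter.style.haveILetI false
set_option backward.isDefEq.respectTransparency.types false

universe u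

open CategoryTheory CategoryTheory.Limits AlgebraicGeometry TopologicalSpace Groth.Agent.DimTheory

namespace Groth.Agent.EquidimChart

variable {X Y : Scheme.{u}}

theorem krullDim_eq (X : Scheme.{u}) : Order.krullDim X = topologicalKrullDim X := by
  rw [topologicalKrullDim_eq_iSup_height, Order.krullDim_eq_iSup_height]

/-- height of a point in its fibre -/
theorem height_asFiber (f : X ⟶ Y) [LocallyOfFiniteType f] (x : X) :
    ∃ n : ℕ, mapTrdeg f x = n ∧ Order.height (f.asFiber x) = n := by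
  have : LocallyOfFiniteType (f.fiberToSpecResidueField (f x)) := MorphismProperty.pullback_snd _ _ ‹_›
  obtain ⟨n, hn, hn'⟩ := exists_height_eq (k := Y.residueField (f x)) (f.fiberToSpecResidueField (f x)) (f.asFiber x)
  rw [FlatEquidim.resTrdeg_fiber_eq, f.fiberι_asFiber] at hn
  exact ⟨n, hn, hn'⟩

theorem asFiber_max_iff (f : X ⟶ Y) (x : X) :
    (∀ w, w ⤳ f.asFiber x → w = f.asFiber x) ↔ FlatEquidim.IsFibreMax f x := by
  constructor
  · intro h z hz hfz
    obtain ⟨w, rfl⟩ : z ∈ Set.range (f.fiberι (f x)) := by rw [f.range_fiberι]; exact hfz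
    rw [h w ((f.fiberι (f x)).isEmbedding.isInducing.specializes_iff.1 (by rwa [f.fiberι_asFiber])), f.fiberι_asFiber]
  · intro h w hw
    refine (f.fiberι (f x)).isEmbedding.injective ?_
    rw [f.fiberι_asFiber]
    refine h _ ?_ (FlatEquidim.fiberι_apply_eq f _ w)
    have := hw.map (f.fiberι (f x)).continuous
    rwa [f.fiberι_asFiber] at this

/-- All fibre components have dimension `e` iff all points maximal in their fibre have relative transcendence degree `e`. -/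
theorem forall_fibre_components_iff (f : X ⟶ Y) [LocallyOfFiniteType f] (e : ℕ) :
    (∀ x' : X, ∀ Z ∈ irreducibleComponents (↥(f.fiber (f x')) : Type u), topologicalKrullDim (↥Z : Type u) = e) ↔
      ∀ x' : X, FlatEquidim.IsFibreMax f x' → mapTrdeg f x' = e := by
  constructor
  · intro h x' hx'
    obtain ⟨n, hn, hn'⟩ := height_asFiber f x'
    have := (FlatDim.forall_components_iff (e : WithBot ℕ∞)).1 (h x') _ ((asFiber_max_iff f x').2 hx')
    rw [hn'] at this
    rw [hn]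
    exact_mod_cast this
  · intro h x' 
    refine (FlatDim.forall_components_iff (e : WithBot ℕ∞)).2 fun m hm => ?_
    have : LocallyOfFiniteType (f.fiberToSpecResidueField (f x')) := MorphismProperty.pullback_snd _ _ ‹_›
    obtain ⟨n, hn, hn'⟩ := exists_height_eq (k := Y.residueField (f x')) (f.fiberToSpecResidueField (f x')) m
    rw [FlatEquidim.resTrdeg_fiber_eq] at hn
    have hmax : FlatEquidim.IsFibreMax f (f.fiberι (f x') m) := fun z hz hfz =>
      FlatDim.eq_fiberι_of_isMax f hm hz (hfz.trans (FlatEquidim.fiberι_apply_eq f _ m))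
    rw [h _ hmax] at hn
    rw [hn', ← Nat.cast_injective (R := Cardinal.{u}) hn]
    rfl

/-- restriction to an open does not change fibre maxima -/
theorem isFibreMax_restrict (f : X ⟶ Y) (U : X.Opens) (y : U) :
    FlatEquidim.IsFibreMax (U.ι ≫ f) y ↔ FlatEquidim.IsFibreMax f (U.ι y) := by
  constructor
  · intro h z hz hfz
    obtain ⟨w, rfl⟩ : z ∈ Set.range U.ι := by
      rw [Scheme.Opens.range_ι]; exact hz.mem_open U.isOpen y.2
    rw [h w (U.ι.isEmbedding.isInducing.specializes_iff.1 hz) hfz]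
  · intro h w hw hfw
    exact U.ι.isEmbedding.injective (h _ (hw.map U.ι.continuous) hfw)

theorem mapTrdeg_restrict (f : X ⟶ Y) (U : X.Opens) (y : U) :
    mapTrdeg (U.ι ≫ f) y = mapTrdeg f (U.ι y) := by
  rw [FlatEquidim.mapTrdeg_comp, mapTrdeg_eq_zero U.ι, add_zero]

section AffineSpace

variable (S : Scheme.{u}) (e : ℕ)


theorem dim_fiber_affineSpace (s : S) : topologicalKrullDim ↥(Scheme.Hom.fiber (𝔸(ULift.{u} (Fin e); S) ↘ S) s) = (e : WithBot ℕ∞) := by
  let i : Scheme.Hom.fiber (𝔸(ULift.{u} (Fin e); S) ↘ S) s ≅ Spec (CommRingCat.of (MvPolynomial (ULift.{u} (Fin e)) (S.residueField s))) :=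
    ((AffineSpace.isPullback_map (S.fromSpecResidueField s)).isoPullback).symm ≪≫
      AffineSpace.SpecIso (ULift.{u} (Fin e)) (S.residueField s)
  rw [(Scheme.homeoOfIso i).isHomeomorph.topologicalKrullDim_eq]
  change topologicalKrullDim (PrimeSpectrum _) = _
  rw [PrimeSpectrum.topologicalKrullDim_eq_ringKrullDim,
    ringKrullDim_eq_of_ringEquiv (MvPolynomial.renameEquiv (S.residueField s) Equiv.ulift).toRingEquiv,
    MvPolynomial.ringKrullDim_of_isNoetherianRing, ringKrullDim_eq_zero_of_field, zero_add, Nat.card_eq_fintype_card, Fintype.card_fin]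

theorem irreducibleSpace_fiber_affineSpace (s : S) : IrreducibleSpace ↥(Scheme.Hom.fiber (𝔸(ULift.{u} (Fin e); S) ↘ S) s) := by
  haveI : IrreducibleSpace 𝔸(ULift.{u} (Fin e); Spec (S.residueField s)) := inferInstance
  exact (Homeomorph.irreducibleSpace_iff (Scheme.homeoOfIso (AffineSpace.isPullback_map (S.fromSpecResidueField s)).isoPullback)).1 inferInstance

theorem mapTrdeg_le (z : 𝔸(ULift.{u} (Fin e); S)) : ∃ n : ℕ, mapTrdeg (𝔸(ULift.{u} (Fin e); S) ↘ S) z = n ∧ n ≤ e := by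
  obtain ⟨n, hn, hn'⟩ := height_asFiber (𝔸(ULift.{u} (Fin e); S) ↘ S) z
  refine ⟨n, hn, ?_⟩
  have := (Order.height_le_krullDim (Scheme.Hom.asFiber (𝔸(ULift.{u} (Fin e); S) ↘ S) z)).trans_eq
    ((krullDim_eq _).trans (dim_fiber_affineSpace S e _))
  rw [hn'] at this
  exact_mod_cast this

theorem mapTrdeg_eq_iff (z : 𝔸(ULift.{u} (Fin e); S)) : mapTrdeg (𝔸(ULift.{u} (Fin e); S) ↘ S) z = e ↔ FlatEquidim.IsFibreMax (𝔸(ULift.{u} (Fin e); S) ↘ S) z := by
  have hs := irreducibleSpace_fiber_affineSpace S e ((𝔸(ULift.{u} (Fin e); S) ↘ S) z)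
  constructor
  · intro h
    rw [← asFiber_max_iff]
    intro w hw
    by_contra hne
    obtain ⟨n, hn, hn'⟩ := height_asFiber (𝔸(ULift.{u} (Fin e); S) ↘ S) z
    rw [show n = e from Nat.cast_injective (R := Cardinal.{u}) (hn.symm.trans h)] at hn'
    have hlt : Scheme.Hom.asFiber (𝔸(ULift.{u} (Fin e); S) ↘ S) z < w := FlatDim.lt_of_specializes_of_ne hw (Ne.symm hne)
    have h1 := Order.height_add_one_le hlt
    have h2 := (Order.height_le_krullDim w).trans_eq
      ((krullDim_eq _).trans (dim_fiber_affineSpace S e _))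
    rw [hn'] at h1
    have h3 : ((e : ℕ∞) + 1 : ℕ∞) ≤ (e : ℕ∞) := h1.trans (by exact_mod_cast h2)
    exact absurd h3 (by rw [not_le]; exact_mod_cast Nat.lt_succ_self e)
  · intro h
    refine ((forall_fibre_components_iff (𝔸(ULift.{u} (Fin e); S) ↘ S) e).1 ?_) z h
    intro x' Z hZ
    have := irreducibleSpace_fiber_affineSpace S e ((𝔸(ULift.{u} (Fin e); S) ↘ S) x')
    rw [irreducibleComponents_eq_singleton, Set.mem_singleton_iff] at hZ
    subst hZ
    rw [← dim_fiber_affineSpace S e ((𝔸(ULift.{u} (Fin e); S) ↘ S) x')]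
    exact (Homeomorph.Set.univ _).isHomeomorph.topologicalKrullDim_eq

theorem generalizingMap_over : GeneralizingMap ((𝔸(ULift.{u} (Fin e); S) ↘ S)).base :=
  FpqcDescent.generalizingMap_of_isOpenMap (𝔸(ULift.{u} (Fin e); S) ↘ S) (AffineSpace.isOpenMap_over S)

theorem isMax_iff (z : 𝔸(ULift.{u} (Fin e); S)) : (∀ w : 𝔸(ULift.{u} (Fin e); S), w ⤳ z → w = z) ↔
    ((∀ y : S, y ⤳ (𝔸(ULift.{u} (Fin e); S) ↘ S) z → y = (𝔸(ULift.{u} (Fin e); S) ↘ S) z) ∧ mapTrdeg (𝔸(ULift.{u} (Fin e); S) ↘ S) z = e) := by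
  rw [mapTrdeg_eq_iff]
  constructor
  · intro h
    refine ⟨fun y hy => ?_, fun w hw _ => h w hw⟩
    obtain ⟨w, hw, rfl⟩ := generalizingMap_over S e hy
    rw [h w hw]
  · rintro ⟨h1, h2⟩ w hw
    exact h2 w hw (h1 _ (hw.map ((𝔸(ULift.{u} (Fin e); S) ↘ S)).continuous))

end AffineSpace

/-- A chart by affine space near a point of a fibre of known dimension. -/
theorem exists_chart (f : X ⟶ Y) [LocallyOfFiniteType f] (x : X) (U0 : X.Opens) (hx : x ∈ U0) (e : ℕ)
    (hdim : FlatMor.fibreDimAt f x = (e : WithBot ℕ∞)) :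
    ∃ (U : X.Opens) (g : (U : Scheme.{u}) ⟶ 𝔸(ULift.{u} (Fin e); Y)),
      x ∈ U ∧ U ≤ U0 ∧ g ≫ (𝔸(ULift.{u} (Fin e); Y) ↘ Y) = U.ι ≫ f ∧ LocallyQuasiFinite g := by
  obtain ⟨_, ⟨V, hV, rfl⟩, hxV, -⟩ :=
    Y.isBasis_affineOpens.exists_subset_of_mem_open (Set.mem_univ (f x)) isOpen_univ
  obtain ⟨_, ⟨U1, hU1, rfl⟩, hxU1, hU1sub⟩ :=
    X.isBasis_affineOpens.exists_subset_of_mem_open (show x ∈ (U0 ⊓ f ⁻¹ᵁ V : X.Opens) from ⟨hx, hxV⟩) (U0 ⊓ f ⁻¹ᵁ V).isOpen
  replace hV : IsAffineOpen V := hV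
  replace hU1 : IsAffineOpen U1 := hU1
  have hU1V : U1 ≤ f ⁻¹ᵁ V := fun y hy => (hU1sub hy).2
  let R := Γ(Y, V)
  let S := Γ(X, U1)
  let φ0 := f.appLE V U1 hU1V
  letI : Algebra R S := φ0.hom.toAlgebra
  haveI : Algebra.FiniteType R S := f.finiteType_appLE hV hU1 hU1V
  let pt := hU1.primeIdealOf ⟨x, hxU1⟩
  obtain ⟨Q, hQ⟩ := RelDim.exists_fibre_point R S pt
  have hdQ := FibreDimChart.fibreDimAt_fromSpec f V hV U1 hU1 hU1V pt Q hQ
  rw [hU1.fromSpec_primeIdealOf, hdim] at hdQ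
  obtain ⟨g0, hg0, φ, -, hφ⟩ := RelDim.exists_quasiFinite (pt.asIdeal.under R) pt.asIdeal Q hQ e hdQ.symm
  let U2 := X.basicOpen g0
  have hxU2 : x ∈ U2 := by
    have : pt ∈ PrimeSpectrum.basicOpen g0 := hg0
    rw [← hU1.fromSpec_preimage_basicOpen] at this
    have h2 : hU1.fromSpec pt ∈ X.basicOpen g0 := this
    rwa [hU1.fromSpec_primeIdealOf] at h2
  have hU2 : IsAffineOpen U2 := hU1.basicOpen g0
  have hle : U2 ≤ U1 := X.basicOpen_le g0
  letI : Algebra S Γ(X, U2) := (X.presheaf.map (homOfLE hle).op).hom.toAlgebra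
  haveI : IsLocalization.Away g0 Γ(X, U2) := hU1.isLocalization_basicOpen g0
  let eL := IsLocalization.algEquiv (Submonoid.powers g0) (Localization.Away g0) Γ(X, U2)
  let ψ : MvPolynomial (ULift.{u} (Fin e)) R →+* Γ(X, U2) :=
    (eL.toRingEquiv.toRingHom.comp φ.toRingHom).comp
      (MvPolynomial.renameEquiv R (Equiv.ulift : ULift.{u} (Fin e) ≃ Fin e)).toRingEquiv.toRingHom
  have hψC : ψ.comp MvPolynomial.C = (f.appLE V U2 (hle.trans hU1V)).hom := by
    ext r
    show eL (φ (MvPolynomial.rename Equiv.ulift (MvPolynomial.C r))) = _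
    rw [MvPolynomial.rename_C, ← MvPolynomial.algebraMap_eq, φ.commutes,
      IsScalarTower.algebraMap_apply R S (Localization.Away g0), eL.commutes]
    show (f.appLE V U1 hU1V ≫ X.presheaf.map (homOfLE hle).op) r = _
    rw [Scheme.Hom.appLE_map]
  let g : (U2 : Scheme.{u}) ⟶ 𝔸(ULift.{u} (Fin e); Y) :=
    hU2.isoSpec.hom ≫ Spec.map (CommRingCat.ofHom ψ) ≫ (AffineSpace.SpecIso (ULift.{u} (Fin e)) Γ(Y, V)).inv ≫
      AffineSpace.map (ULift.{u} (Fin e)) hV.fromSpec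
  refine ⟨U2, g, hxU2, fun y hy => (hU1sub (hle hy)).1, ?_, ?_⟩
  · simp only [g, Category.assoc, AffineSpace.map_over]
    rw [AffineSpace.SpecIso_inv_over_assoc, ← Spec.map_comp_assoc, ← CommRingCat.ofHom_comp, hψC,
      CommRingCat.ofHom_hom, IsAffineOpen.SpecMap_appLE_fromSpec f hV hU2 (hle.trans hU1V)]
    rw [← Category.assoc, IsAffineOpen.isoSpec_hom_fromSpec]
  · have hqf : ψ.QuasiFinite := by
      have h1 : (MvPolynomial.renameEquiv R (Equiv.ulift : ULift.{u} (Fin e) ≃ Fin e)).toRingEquiv.toRingHom.QuasiFinite :=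
        RingHom.QuasiFinite.of_finite (RingHom.Finite.of_surjective _ (AlgEquiv.surjective _))
      have h2 : eL.toRingEquiv.toRingHom.QuasiFinite :=
        RingHom.QuasiFinite.of_finite (RingHom.Finite.of_surjective _ eL.surjective)
      exact (h2.comp hφ).comp h1
    have : LocallyQuasiFinite (Spec.map (CommRingCat.ofHom ψ)) :=
      (HasRingHomProperty.Spec_iff (P := @LocallyQuasiFinite)).2 hqf
    have : IsOpenImmersion (AffineSpace.map (ULift.{u} (Fin e)) hV.fromSpec) :=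
      MorphismProperty.of_isPullback (AffineSpace.isPullback_map hV.fromSpec).flip hV.isOpenImmersion_fromSpec
    infer_instance

/-- fibre dimension in an equidimensional neighbourhood -/
theorem fibreDimAt_of_components (f : X ⟶ Y) [LocallyOfFiniteType f] (U0 : X.Opens) (e : ℕ)
    (h : ∀ x' : (↥U0 : Type u), ∀ Z ∈ irreducibleComponents (↥((U0.ι ≫ f).fiber ((U0.ι ≫ f).base x')) : Type u),
      topologicalKrullDim (↥Z : Type u) = e) :
    (∀ y ∈ U0, FlatEquidim.IsFibreMax f y → mapTrdeg f y = e) ∧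
      ∀ y ∈ U0, FlatMor.fibreDimAt f y = (e : WithBot ℕ∞) := by
  have h' := (forall_fibre_components_iff (U0.ι ≫ f) e).1 h
  have h1 : ∀ y ∈ U0, FlatEquidim.IsFibreMax f y → mapTrdeg f y = e := fun y hy hy' => by
    have := h' ⟨y, hy⟩ ((isFibreMax_restrict f U0 ⟨y, hy⟩).2 hy')
    rwa [mapTrdeg_restrict] at this
  exact ⟨h1, fun y hy => FlatEquidim.fibreDimAt_eq f h1 hy⟩

theorem isMax_of_open (U : X.Opens) (ξ : (U : Scheme.{u})) (h : ∀ w : (U : Scheme.{u}), w ⤳ ξ → w = ξ) : ∀ z : X, z ⤳ U.ι ξ → z = U.ι ξ := by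
  intro z hz
  obtain ⟨w, rfl⟩ : z ∈ Set.range U.ι := by
    rw [Scheme.Opens.range_ι]; exact hz.mem_open U.isOpen ξ.2
  rw [h w (U.ι.isEmbedding.isInducing.specializes_iff.1 hz)]

/-- equidimensional ⇒ quasi-finite dominant on components over affine space -/
theorem exists_quasiFinite_of_isEquidimAt (f : X ⟶ Y) [LocallyOfFiniteType f] (x : X)
    (h : EGA43.IsEquidimAt f x) :
    ∃ (e : ℕ) (U : X.Opens) (g : (U : Scheme.{u}) ⟶ 𝔸(ULift.{u} (Fin e); Y)),
      x ∈ U ∧ g ≫ (𝔸(ULift.{u} (Fin e); Y) ↘ Y) = U.ι ≫ f ∧ LocallyQuasiFinite g ∧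
      ∀ Z ∈ irreducibleComponents (↥U : Type u),
        closure (g.base '' Z) ∈ irreducibleComponents (↥𝔸(ULift.{u} (Fin e); Y) : Type u) := by
  obtain ⟨e, U0, hxU0, hcomp, hdim⟩ := h
  obtain ⟨h1, h2⟩ := fibreDimAt_of_components f U0 e hdim
  obtain ⟨U, g, hxU, hle, hg, hqf⟩ := exists_chart f x U0 hxU0 e (h2 x hxU0)
  haveI : LocallyOfFiniteType (g ≫ (𝔸(ULift.{u} (Fin e); Y) ↘ Y)) := by rw [hg]; infer_instance
  haveI : LocallyOfFiniteType g := locallyOfFiniteType_of_comp g (𝔸(ULift.{u} (Fin e); Y) ↘ Y)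
  refine ⟨e, U, g, hxU, hg, hqf, fun Z hZ => ?_⟩
  have hZ' : Z ∈ irreducibleComponents (↥(U : Scheme.{u}) : Type u) := hZ
  let ξ : (U : Scheme.{u}) := hZ'.1.genericPoint
  have hξ : ∀ w : (U : Scheme.{u}), w ⤳ ξ → w = ξ := mem_component_isMax hZ'
  have hξX := isMax_of_open U ξ hξ
  have hξU0 : U.ι ξ ∈ U0 := hle ξ.2
  let ξ0 : (U0 : Scheme.{u}) := ⟨U.ι ξ, hξU0⟩
  have hξ0 : ∀ w : (U0 : Scheme.{u}), w ⤳ ξ0 → w = ξ0 := fun w hw =>
    U0.ι.isEmbedding.injective (hξX _ (hw.map U0.ι.continuous))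
  obtain ⟨W, hW, -, hWc⟩ := hcomp _ (FlatDim.closure_mem_irreducibleComponents hξ0 :)
  have hWη : W = closure {f (U.ι ξ)} := by
    rw [← hWc, closure_image_closure (U0.ι ≫ f).continuous, Set.image_singleton]
    rfl
  have hη : ∀ y : Y, y ⤳ f (U.ι ξ) → y = f (U.ι ξ) := by
    intro y hy
    have hsub : W ⊆ closure {y} := hWη ▸ hy.closure_subset
    have h2' := hW.2 isIrreducible_singleton.closure hsub
    have : y ∈ W := h2' (subset_closure rfl)
    rw [hWη] at this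
    exact (hy.antisymm (specializes_iff_mem_closure.2 this)).eq
  have htr : mapTrdeg f (U.ι ξ) = e :=
    h1 _ hξU0 fun z hz _ => hξX z hz
  have hz : mapTrdeg (𝔸(ULift.{u} (Fin e); Y) ↘ Y) (g ξ) = e := by
    have := FlatEquidim.mapTrdeg_comp g (𝔸(ULift.{u} (Fin e); Y) ↘ Y) ξ
    rw [hg, mapTrdeg_restrict, htr, show mapTrdeg g ξ = 0 from AlgSpDesc.resTrdeg_eq_zero_of_lqf g ξ, add_zero] at this
    exact this.symm
  have hqz : (𝔸(ULift.{u} (Fin e); Y) ↘ Y) (g ξ) = f (U.ι ξ) := congr($hg ξ)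
  have hmax := (isMax_iff Y e (g ξ)).2 ⟨by rw [hqz]; exact hη, hz⟩
  rw [← component_eq_closure hZ', closure_image_closure g.continuous, Set.image_singleton]
  exact FlatDim.closure_mem_irreducibleComponents hmax

/-- quasi-finite over affine space with dominant components ⇒ equidimensional -/
theorem isEquidimAt_of_quasiFinite [IsLocallyNoetherian Y] (f : X ⟶ Y) [LocallyOfFiniteType f] (x : X) (e : ℕ)
    (U : X.Opens) (g : (U : Scheme.{u}) ⟶ 𝔸(ULift.{u} (Fin e); Y)) (hxU : x ∈ U)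
    (hg : g ≫ (𝔸(ULift.{u} (Fin e); Y) ↘ Y) = U.ι ≫ f) [LocallyQuasiFinite g]
    (hcomp : ∀ Z ∈ irreducibleComponents (↥U : Type u),
      closure (g.base '' Z) ∈ irreducibleComponents (↥𝔸(ULift.{u} (Fin e); Y) : Type u)) :
    EGA43.IsEquidimAt f x := by
  haveI : LocallyOfFiniteType (g ≫ (𝔸(ULift.{u} (Fin e); Y) ↘ Y)) := by rw [hg]; infer_instance
  haveI : LocallyOfFiniteType g := locallyOfFiniteType_of_comp g (𝔸(ULift.{u} (Fin e); Y) ↘ Y)
  haveI : IsLocallyNoetherian X := LocallyOfFiniteType.isLocallyNoetherian f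
  -- maximal points of `X` in `U`
  have hmaxU : ∀ ξ : (U : Scheme.{u}), (∀ z : X, z ⤳ U.ι ξ → z = U.ι ξ) →
      (∀ y : Y, y ⤳ f (U.ι ξ) → y = f (U.ι ξ)) ∧ mapTrdeg f (U.ι ξ) = e := by
    intro ξ hξX
    have hξ : ∀ w : (U : Scheme.{u}), w ⤳ ξ → w = ξ := fun w hw => U.ι.isEmbedding.injective (hξX _ (hw.map U.ι.continuous))
    have hc := hcomp _ (FlatDim.closure_mem_irreducibleComponents hξ :)
    rw [closure_image_closure g.continuous, Set.image_singleton] at hc
    have hgmax : ∀ w, w ⤳ g ξ → w = g ξ := fun w hw => by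
      have h2 := hc.2 ((isIrreducible_singleton (x := w)).closure) hw.closure_subset
      exact (hw.antisymm (specializes_iff_mem_closure.2 (h2 (subset_closure rfl)))).eq
    obtain ⟨h1, h2⟩ := (isMax_iff Y e (g ξ)).1 hgmax
    have hqz : (𝔸(ULift.{u} (Fin e); Y) ↘ Y) (g ξ) = f (U.ι ξ) := congr($hg ξ)
    refine ⟨hqz ▸ h1, ?_⟩
    have := FlatEquidim.mapTrdeg_comp g (𝔸(ULift.{u} (Fin e); Y) ↘ Y) ξ
    rw [hg, mapTrdeg_restrict, show mapTrdeg g ξ = 0 from AlgSpDesc.resTrdeg_eq_zero_of_lqf g ξ, add_zero, h2] at this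
    exact this
  -- remove the components not through `x`
  obtain ⟨U1, hU1, hxU1, hU1U⟩ := exists_isAffineOpen_mem_and_subset (X := X) hxU
  let x1 : (U1 : Scheme.{u}) := ⟨x, hxU1⟩
  haveI : IsAffine U1 := hU1
  haveI : IsNoetherian (U1 : Scheme.{u}) := {}
  have hfin : {Z ∈ irreducibleComponents (↥(U1 : Scheme.{u}) : Type u) | x1 ∉ Z}.Finite :=
    NoetherianSpace.finite_irreducibleComponents.subset fun Z hZ => hZ.1
  let B : Set (U1 : Scheme.{u}) := ⋃ Z ∈ {Z ∈ irreducibleComponents (↥(U1 : Scheme.{u}) : Type u) | x1 ∉ Z}, Z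
  have hB : IsClosed B := hfin.isClosed_biUnion fun Z hZ => isClosed_of_mem_irreducibleComponents Z hZ.1
  let U' : X.Opens := U1.ι ''ᵁ ⟨Bᶜ, hB.isOpen_compl⟩
  have hU'1 : U' ≤ U1 := U1.ι_image_le _
  have hxB : x1 ∉ B := fun h => by
    obtain ⟨Z, hZ, hxZ⟩ := Set.mem_iUnion₂.1 h
    exact hZ.2 hxZ
  have hxU' : x ∈ U' := ⟨x1, hxB, rfl⟩
  have hgen : ∀ y ∈ U', ∀ ξ : X, (∀ z : X, z ⤳ ξ → z = ξ) → ξ ⤳ y → ξ ∈ U' → ξ ⤳ x := by
    intro y hy ξ hξ hξy hξU'
    obtain ⟨ξ1, hξ1, rfl⟩ := hξU'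
    have hm : ∀ w : (U1 : Scheme.{u}), w ⤳ ξ1 → w = ξ1 := fun w hw => U1.ι.isEmbedding.injective (hξ _ (hw.map U1.ι.continuous))
    by_contra hn
    refine hξ1 (Set.mem_iUnion₂.2 ⟨closure {ξ1}, ⟨FlatDim.closure_mem_irreducibleComponents hm, fun hx => hn ?_⟩,
      subset_closure rfl⟩)
    exact (specializes_iff_mem_closure.2 hx).map U1.ι.continuous
  refine ⟨e, U', hxU', fun Z hZ => ?_, ?_⟩
  · have hZ' : Z ∈ irreducibleComponents (↥(U' : Scheme.{u}) : Type u) := hZ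
    let ξ : (U' : Scheme.{u}) := hZ'.1.genericPoint
    have hξX := isMax_of_open U' ξ (mem_component_isMax hZ')
    obtain ⟨h1, -⟩ := hmaxU ⟨U'.ι ξ, hU1U (hU'1 ξ.2)⟩ hξX
    refine ⟨closure {f (U'.ι ξ)}, FlatDim.closure_mem_irreducibleComponents h1, ?_, ?_⟩
    · exact specializes_iff_mem_closure.1 ((hgen _ ξ.2 _ hξX specializes_rfl ξ.2).map f.continuous)
    · rw [← component_eq_closure hZ', closure_image_closure (U'.ι ≫ f).continuous, Set.image_singleton]
      rfl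
  · refine (forall_fibre_components_iff (U'.ι ≫ f) e).2 fun y hy => ?_
    rw [isFibreMax_restrict] at hy
    rw [mapTrdeg_restrict]
    let x0 := U'.ι y
    have hx0 : x0 ∈ U := hU1U (hU'1 y.2)
    -- upper bound
    obtain ⟨n, hn, hne⟩ := mapTrdeg_le Y e (g ⟨x0, hx0⟩)
    have hy' : mapTrdeg f x0 = n := by
      have := FlatEquidim.mapTrdeg_comp g (𝔸(ULift.{u} (Fin e); Y) ↘ Y) ⟨x0, hx0⟩
      rw [hg, mapTrdeg_restrict, show mapTrdeg g ⟨x0, hx0⟩ = 0 from AlgSpDesc.resTrdeg_eq_zero_of_lqf g _, add_zero,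
        hn] at this
      exact this
    -- fibre dimension
    have hfd : ∀ z : X, FlatEquidim.IsFibreMax f z → ∀ m : ℕ, mapTrdeg f z = m →
        FlatMor.fibreDimAt f z = (m : WithBot ℕ∞) := by
      intro z hz m hm
      rw [AlgSpDesc.fibreDimAt_eq_stalk_add_resTrdeg, show Dual3.resTrdeg f z = mapTrdeg f z from rfl, hm, map_natCast,
        ringKrullDim_stalk_eq_coheight, Order.coheight_eq_zero.2 fun b hb => ?_, WithBot.coe_zero, zero_add]
      · rfl
      · exact le_of_eq ((asFiber_max_iff f z).2 hz b hb)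
    suffices e ≤ n by
      rw [show n = e from le_antisymm hne this] at hy'
      exact hy'
    by_contra hlt
    have hle : FlatMor.fibreDimAt f x0 ≤ (n : WithBot ℕ∞) := (hfd x0 hy n hy').le
    have hopen := FibreDimChart.isOpen_fibreDimAt_le f n
    -- a maximal generization
    obtain ⟨ξ1, hξ1, hξ1y⟩ : ∃ ξ : X, (∀ z : X, z ⤳ ξ → z = ξ) ∧ ξ ⤳ x0 := by
      have hZ := irreducibleComponent_mem_irreducibleComponents x0
      exact ⟨hZ.1.genericPoint, mem_component_isMax hZ,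
        specializes_iff_mem_closure.2 ((component_eq_closure hZ).symm ▸ mem_irreducibleComponent)⟩
    have hξU : ξ1 ∈ U := hξ1y.mem_open U.isOpen hx0
    obtain ⟨-, h2⟩ := hmaxU ⟨ξ1, hξU⟩ hξ1
    have h3 := hfd ξ1 (fun z hz _ => hξ1 z hz) e h2
    have h4 : FlatMor.fibreDimAt f ξ1 ≤ (n : WithBot ℕ∞) := hξ1y.mem_open hopen hle
    rw [h3] at h4
    exact hlt (by exact_mod_cast h4)

end Groth.Agent.EquidimChart
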