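import Groth.Agent.EquidimChart.DimOpen

/-!
# The dimension inequality, along chains in an irreducible closed subset
-/

set_option autoImplicit false
set_option backward.isDefEq.respectTransparency.types false
set_option maxHeartbeats 1000000
universe u

open AlgebraicGeometry CategoryTheory TopologicalSpace Topology
open Groth.Agent.DimTheory

namespace Groth.Agent.EquidimChart

variable {X Y : Scheme.{u}}

/-- a chain from `x` inside `closure {ξ}` is bounded by a chain from `f x` inside `closure {f ξ}` plus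
the difference of transcendence degrees -/
theorem chain_ineq [IsLocallyNoetherian Y] (f : X ⟶ Y) [LocallyOfFiniteType f] {x ξ : X} {t e : ℕ}
    (ht : mapTrdeg f x = t) (he : mapTrdeg f ξ = e) (s : LTSeries X) (hs1 : s.head = x) (hs2 : ξ ⤳ s.last) :
    ∃ r : LTSeries Y, r.head = f x ∧ f ξ ⤳ r.last ∧ s.length + t ≤ r.length + e := by
  haveI : IsLocallyNoetherian X := LocallyOfFiniteType.isLocallyNoetherian f
  have hsi : ∀ i, ξ ⤳ s i := fun i => hs2.trans (show s.last ⤳ s i from s.monotone (Fin.le_last i))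
  let Wc : Closeds X := ⟨closure {ξ}, isClosed_closure⟩
  obtain ⟨hWirr, hWg, hWr⟩ := component_subscheme ξ Wc rfl
  let Yc : Closeds Y := ⟨closure {f ξ}, isClosed_closure⟩
  obtain ⟨hYirr, hYg, hYr⟩ := component_subscheme (f ξ) Yc rfl
  let ιW := (Scheme.IdealSheafData.vanishingIdeal Wc).subschemeι
  let ιY := (Scheme.IdealSheafData.vanishingIdeal Yc).subschemeι
  haveI : IsLocallyNoetherian (Scheme.IdealSheafData.vanishingIdeal Yc).subscheme :=
    LocallyOfFiniteType.isLocallyNoetherian ιY
  have hrange : ∀ z, (ιW ≫ f) z ∈ Yc := fun z =>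
    specializes_iff_mem_closure.1 ((specializes_iff_mem_closure.2 (hWr.le ⟨z, rfl⟩)).map f.continuous)
  let l := IsClosedImmersion.lift ιY (ιW ≫ f) (by
    rw [Scheme.IdealSheafData.ker_subschemeι]; exact vanishingIdeal_le_ker _ _ hrange)
  have hl : l ≫ ιY = ιW ≫ f := IsClosedImmersion.lift_fac _ _ _
  haveI : LocallyOfFiniteType (l ≫ ιY) := by rw [hl]; infer_instance
  haveI : LocallyOfFiniteType l := locallyOfFiniteType_of_comp l ιY
  have hlg : l (genericPoint _) = genericPoint _ := ιY.isEmbedding.injective (by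
    rw [← Scheme.Hom.comp_apply, hl, Scheme.Hom.comp_apply, hWg, hYg])
  -- lift the chain
  have hpre : ∀ i, ∃ w, ιW w = s i := fun i => by
    show s i ∈ Set.range ιW
    rw [hWr]; exact specializes_iff_mem_closure.1 (hsi i)
  choose w hw using hpre
  have hmono : StrictMono w := fun i j hij => by
    have h1 : s i < s j := s.strictMono hij
    have h2 : w j ⤳ w i := ιW.isEmbedding.isInducing.specializes_iff.1 (by rw [hw, hw]; exact h1.le)
    exact FlatDim.lt_of_specializes_of_ne h2 fun h => h1.ne (by rw [← hw, ← hw, h])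
  let sW : LTSeries _ := LTSeries.mk s.length w hmono
  have hlx : ιY (l (w 0)) = f x := by
    rw [← Scheme.Hom.comp_apply, hl, Scheme.Hom.comp_apply, hw, ← hs1]; rfl
  obtain ⟨a, a', t', e', ha, ha', ht', he', hsum⟩ := dim_stalk_add_trdeg_le l hlg (w 0)
  have htr : ∀ z, mapTrdeg f (ιW z) = mapTrdeg l z := fun z => by
    have h1 : mapTrdeg (l ≫ ιY) z = mapTrdeg (ιW ≫ f) z := by rw [hl]
    rw [FlatEquidim.mapTrdeg_comp, FlatEquidim.mapTrdeg_comp, mapTrdeg_eq_zero ιY, mapTrdeg_eq_zero ιW,
      zero_add, add_zero] at h1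
    exact h1.symm
  rw [← htr, hw, show s 0 = x from hs1, ht] at ht'
  rw [← htr, hWg, he] at he'
  obtain rfl : t = t' := Nat.cast_injective (R := Cardinal.{u}) ht'
  obtain rfl : e = e' := Nat.cast_injective (R := Cardinal.{u}) he'
  rw [ringKrullDim_stalk_eq_coheight] at ha ha'
  have h1 : (s.length : ℕ∞) ≤ a := by
    rw [← show Order.coheight (w 0) = (a : ℕ∞) from WithBot.coe_injective ha]
    exact Order.length_le_coheight_head (p := sW)
  obtain ⟨r, hr1, hr2⟩ := Order.exists_series_of_le_coheight (l (w 0))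
    (show ((a' : ℕ) : ℕ∞) ≤ Order.coheight (l (w 0)) from (WithBot.coe_injective ha').ge)
  refine ⟨r.map _ (strictMono_immersion ιY), ?_, ?_, ?_⟩
  · rw [LTSeries.head_map, hr1, hlx]
  · rw [LTSeries.last_map, ← hYg]
    exact (genericPoint_specializes r.last).map ιY.continuous
  · have : s.length ≤ a := by exact_mod_cast h1
    show s.length + t ≤ r.length + e
    omega

end Groth.Agent.EquidimChart
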