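import Groth.Agent.EquidimChart.OpenAt
import Groth.Agent.DimTheory.LocClosed

/-!
Local dimensions for morphisms open at the maximal points of a fibre.
-/

set_option autoImplicit false
set_option linter.style.haveILetI false
set_option backward.isDefEq.respectTransparency.types false

universe u

open CategoryTheory CategoryTheory.Limits AlgebraicGeometry TopologicalSpace Groth.Agent.DimTheory

namespace Groth.Agent.EquidimChart

variable {X Y : Scheme.{u}}

theorem exists_fibreMax' (f : X ⟶ Y) [LocallyOfFiniteType f] (x : X) :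
    ∃ (w : f.fiber (f x)) (n : ℕ), w ⤳ f.asFiber x ∧ (∀ v, v ⤳ w → v = w) ∧ mapTrdeg f (f.fiberι (f x) w) = n ∧
      FlatMor.fibreDimAt f x = (n : WithBot ℕ∞) := by
  have : LocallyOfFiniteType (f.fiberToSpecResidueField (f x)) := MorphismProperty.pullback_snd _ _ ‹_›
  obtain ⟨m, hle, hm, heq⟩ := exists_height_eq_add_coheight (k := Y.residueField (f x))
    (f.fiberToSpecResidueField (f x)) (f.asFiber x)
  obtain ⟨n, hn, hn'⟩ := exists_height_eq (k := Y.residueField (f x)) (f.fiberToSpecResidueField (f x)) m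
  rw [FlatEquidim.resTrdeg_fiber_eq] at hn
  refine ⟨m, n, hle, fun v hv => (hv.antisymm (hm v hv)).eq, hn, ?_⟩
  show FlatMor.localDim (f.fiber (f x)) (f.asFiber x) = _
  rw [FieldExtLD.localDim_eq (k := Y.residueField (f x)) (f.fiberToSpecResidueField (f x)), ← heq, hn']
  rfl

theorem strictMono_immersion {Z : Scheme.{u}} (i : Z ⟶ X) [IsPreimmersion i] : StrictMono (i : Z → X) := by
  intro a b hab
  refine FlatDim.lt_of_specializes_of_ne ((show b ⤳ a from hab.le).map i.continuous) ?_
  exact fun h => hab.ne (i.isEmbedding.injective h)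

/-- concatenation of chains -/
theorem coheight_add_le {α : Type*} [Preorder α] {x z : α} {c : ℕ} (l : LTSeries α) (h1 : l.head = x) (h2 : l.last = z)
    (hl : l.length = c) : (c : ℕ∞) + Order.coheight z ≤ Order.coheight x := by
  cases hz : Order.coheight z using ENat.recTopCoe with
  | top =>
    have := Order.coheight_anti (show x ≤ z from h1 ▸ h2 ▸ l.head_le_last)
    rw [hz, top_le_iff] at this
    rw [this]; exact le_top
  | coe d =>
    obtain ⟨m, hm1, hm2⟩ := Order.exists_series_of_le_coheight z hz.ge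
    have := Order.length_le_coheight_head (p := l.smash m (h2.trans hm1.symm))
    rw [RelSeries.head_smash, RelSeries.smash_length, h1, hl, hm2] at this
    exact_mod_cast this

/-- the dimension of a closed irreducible subset at a point is at most that of the ambient -/
theorem coheight_subscheme_le {Z : Scheme.{u}} (i : Z ⟶ X) [IsPreimmersion i] (z : Z) :
    Order.coheight z ≤ Order.coheight (i z) :=
  Order.coheight_le_coheight_apply_of_strictMono i (strictMono_immersion i) z

/-- along a chain in a fibre -/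
theorem coheight_add_trdeg (f : X ⟶ Y) [LocallyOfFiniteType f] {x : X} {w : f.fiber (f x)} (hw : w ⤳ f.asFiber x)
    {t n : ℕ} (ht : mapTrdeg f x = t) (hn : mapTrdeg f (f.fiberι (f x) w) = n) :
    ∃ c : ℕ, n = t + c ∧ (c : ℕ∞) + Order.coheight (f.fiberι (f x) w) ≤ Order.coheight x := by
  haveI : LocallyOfFiniteType (f.fiberToSpecResidueField (f x)) := MorphismProperty.pullback_snd _ _ ‹_›
  let F := f.fiber (f x)
  let ft := f.fiberToSpecResidueField (f x)
  let Wc : Closeds F := ⟨closure {w}, isClosed_closure⟩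
  obtain ⟨hirr, hg, hr⟩ := component_subscheme w Wc rfl
  let ι := (Scheme.IdealSheafData.vanishingIdeal Wc).subschemeι
  obtain ⟨a, ha⟩ : f.asFiber x ∈ Set.range ι := by rw [hr]; exact specializes_iff_mem_closure.1 hw
  haveI : LocallyOfFiniteType (ι ≫ ft) := inferInstance
  have hsum := height_add_coheight (k := Y.residueField (f x)) (ι ≫ ft) a
  rw [topologicalKrullDim_eq_height_genericPoint, ← height_immersion (k := Y.residueField (f x)) ft ι a, ha,
    ← height_immersion (k := Y.residueField (f x)) ft ι (genericPoint _), hg] at hsum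
  obtain ⟨t', ht', htt⟩ := height_asFiber f x
  obtain rfl : t = t' := Nat.cast_injective (R := Cardinal.{u}) (ht.symm.trans ht')
  obtain ⟨n', hn', hnn⟩ := exists_height_eq (k := Y.residueField (f x)) ft w
  rw [FlatEquidim.resTrdeg_fiber_eq, hn] at hn'
  obtain rfl : n = n' := Nat.cast_injective (R := Cardinal.{u}) hn'
  rw [htt, hnn] at hsum
  have hsum' : (t : ℕ∞) + Order.coheight a = n := WithBot.coe_injective hsum
  obtain ⟨c, hc⟩ := ENat.ne_top_iff_exists.1 (show Order.coheight a ≠ ⊤ from fun h => by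
    rw [h, add_top] at hsum'
    exact (ENat.natCast_ne_top n) hsum'.symm)
  rw [← hc] at hsum'
  refine ⟨c, by exact_mod_cast hsum'.symm, ?_⟩
  obtain ⟨l, hl1, hl2⟩ := Order.exists_series_of_le_coheight a hc.le
  let l0 := (l.map _ (strictMono_immersion ι)).map _ (strictMono_immersion (f.fiberι (f x)))
  have h0 : l0.head = x := by
    rw [LTSeries.head_map, LTSeries.head_map, hl1, ha, f.fiberι_asFiber]
  -- the last point generizes to `w`
  have hlast : w ⤳ ι l.last := by
    rw [← hg]; exact (genericPoint_specializes l.last).map ι.continuous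
  have h3 := coheight_add_le l0 h0 rfl (show l0.length = c from hl2)
  refine le_trans (add_le_add le_rfl ?_) h3
  refine Order.coheight_anti ?_
  rw [LTSeries.last_map, LTSeries.last_map]
  exact hlast.map (f.fiberι (f x)).continuous

/-- dimension of the base bounded by that of the source -/
theorem ringKrullDim_le_of_surjective_comap : ∀ (s : ℕ) {A B : Type u} [CommRing A] [CommRing B] [IsNoetherianRing A]
    [IsNoetherianRing B] [IsLocalRing A] [IsLocalRing B] [Algebra A B],
    (∀ q : Ideal A, q.IsPrime → ∃ Q : Ideal B, Q.IsPrime ∧ Q.comap (algebraMap A B) = q) →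
    (∀ Q : Ideal B, Q.IsPrime → Q.comap (algebraMap A B) = IsLocalRing.maximalIdeal A → Q = IsLocalRing.maximalIdeal B) →
    ringKrullDim B ≤ (s : WithBot ℕ∞) → ringKrullDim A ≤ (s : WithBot ℕ∞) := by
  intro s
  induction s with
  | zero =>
    intro A B _ _ _ _ _ _ _ hsurj hfib hB
    haveI : Ring.KrullDimLE 0 B := Ring.krullDimLE_iff.2 hB
    haveI : Ring.KrullDimLE 0 A := by
      refine Ring.KrullDimLE.mk₀ fun q hq => ?_
      obtain ⟨Q, hQ, rfl⟩ := hsurj q hq
      obtain ⟨Qm, hQm, hQmc⟩ := hsurj (IsLocalRing.maximalIdeal A) inferInstance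
      rw [IsLocalRing.eq_maximalIdeal (Ideal.IsPrime.isMaximal' (I := Q) hQ),
        ← IsLocalRing.eq_maximalIdeal (Ideal.IsPrime.isMaximal' (I := Qm) hQm), hQmc]
      exact IsLocalRing.maximalIdeal.isMaximal A
    exact Ring.krullDimLE_iff.1 inferInstance
  | succ s ih =>
    intro A B _ _ _ _ _ _ _ hsurj hfib hB
    by_cases hB0 : ringKrullDim B ≤ (s : WithBot ℕ∞)
    · exact (ih hsurj hfib hB0).trans (by exact_mod_cast Nat.le_succ s)
    -- choose a parameter
    have hmne : ∀ Q ∈ minimalPrimes B, ¬ IsLocalRing.maximalIdeal A ≤ Q.comap (algebraMap A B) := by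
      intro Q hQ hle
      haveI := hQ.1.1
      have h1 := hfib Q hQ.1.1 (le_antisymm (IsLocalRing.le_maximalIdeal (Ideal.IsPrime.comap _ : (Q.comap (algebraMap A B)).IsPrime).ne_top) hle)
      apply hB0
      haveI : Ring.KrullDimLE 0 B := Ring.KrullDimLE.mk₀ fun q hq => by
        rw [le_antisymm (IsLocalRing.le_maximalIdeal hq.ne_top) (h1 ▸ hQ.2 ⟨hq, bot_le⟩ (h1 ▸ IsLocalRing.le_maximalIdeal hq.ne_top))]
        exact IsLocalRing.maximalIdeal.isMaximal B
      exact (Ring.krullDimLE_iff.1 (inferInstance : Ring.KrullDimLE 0 B)).trans (by exact_mod_cast Nat.zero_le s)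
    have hfin : (minimalPrimes B).Finite := minimalPrimes.finite_of_isNoetherianRing B
    have : ¬ ((IsLocalRing.maximalIdeal A : Set A) ⊆ ⋃ Q ∈ (↑hfin.toFinset : Set (Ideal B)), (Q.comap (algebraMap A B) : Set A)) := by
      rw [Ideal.subset_union_prime (⊥ : Ideal B) ⊥ fun Q hQ _ _ => by
        haveI := (hfin.mem_toFinset.1 hQ).1.1
        exact Ideal.IsPrime.comap _]
      rintro ⟨Q, hQ, hle⟩
      exact hmne Q (hfin.mem_toFinset.1 hQ) hle
    obtain ⟨a, ha, ha'⟩ := Set.not_subset.1 this
    simp only [Set.mem_iUnion, not_exists, Set.Finite.coe_toFinset, SetLike.mem_coe] at ha'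
    let I := Ideal.span {a}
    let J := I.map (algebraMap A B)
    have hI : I ≤ IsLocalRing.maximalIdeal A := (Ideal.span_singleton_le_iff_mem _).2 ha
    have hJ : J ≤ IsLocalRing.maximalIdeal B := by
      obtain ⟨Qm, hQm, hQmc⟩ := hsurj (IsLocalRing.maximalIdeal A) inferInstance
      rw [Ideal.map_le_iff_le_comap, ← hfib Qm hQm hQmc, hQmc]
      exact hI
    haveI : Nontrivial (A ⧸ I) := Ideal.Quotient.nontrivial_iff.2 fun h => (IsLocalRing.maximalIdeal.isMaximal A).ne_top (top_le_iff.1 (h ▸ hI))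
    haveI : Nontrivial (B ⧸ J) := Ideal.Quotient.nontrivial_iff.2 fun h => (IsLocalRing.maximalIdeal.isMaximal B).ne_top (top_le_iff.1 (h ▸ hJ))
    haveI : IsLocalRing (A ⧸ I) := IsLocalRing.of_surjective' (Ideal.Quotient.mk I) Ideal.Quotient.mk_surjective
    haveI : IsLocalRing (B ⧸ J) := IsLocalRing.of_surjective' (Ideal.Quotient.mk J) Ideal.Quotient.mk_surjective
    letI : Algebra (A ⧸ I) (B ⧸ J) := (Ideal.quotientMap J (algebraMap A B) Ideal.le_comap_map).toAlgebra
    have hmk : ∀ r, algebraMap (A ⧸ I) (B ⧸ J) (Ideal.Quotient.mk I r) = Ideal.Quotient.mk J (algebraMap A B r) := fun r => rfl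
    have hmaxA : (IsLocalRing.maximalIdeal (A ⧸ I)).comap (Ideal.Quotient.mk I) = IsLocalRing.maximalIdeal A :=
      IsLocalRing.eq_maximalIdeal (Ideal.comap_isMaximal_of_surjective _ Ideal.Quotient.mk_surjective)
    have hcc : ∀ Q : Ideal (B ⧸ J), (Q.comap (Ideal.Quotient.mk J)).comap (algebraMap A B) =
        (Q.comap (algebraMap (A ⧸ I) (B ⧸ J))).comap (Ideal.Quotient.mk I) := fun Q => by
      ext r; simp only [Ideal.mem_comap, hmk]
    have hdimB : ringKrullDim (B ⧸ J) ≤ (s : WithBot ℕ∞) := by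
      rw [ringKrullDim_quotient]
      refine iSup_le fun l => ?_
      obtain ⟨Q, hQ, hQl⟩ := Ideal.exists_minimalPrimes_le (bot_le : (⊥ : Ideal B) ≤ l.head.1.asIdeal)
      let Qp : PrimeSpectrum B := ⟨Q, hQ.1.1⟩
      have hlt : Qp < l.head.1 := lt_of_le_of_ne hQl fun he => ha' Q hQ (by
        show algebraMap A B a ∈ Q
        rw [show Q = l.head.1.asIdeal from congrArg PrimeSpectrum.asIdeal he]
        exact l.head.2 (Ideal.mem_map_of_mem _ (Ideal.mem_span_singleton_self a)))
      let l' : LTSeries (PrimeSpectrum B) := l.map (fun p => p.1) (fun _ _ h => h)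
      have h3 := Order.LTSeries.length_le_krullDim (l'.cons Qp (by rw [LTSeries.head_map]; exact hlt))
      rw [RelSeries.cons_length] at h3
      have h4 : ((l.length + 1 : ℕ) : WithBot ℕ∞) ≤ ((s + 1 : ℕ) : WithBot ℕ∞) := h3.trans hB
      exact_mod_cast (show l.length ≤ s by have : l.length + 1 ≤ s + 1 := by exact_mod_cast h4
                                           omega)
    have hA' := ih (A := A ⧸ I) (B := B ⧸ J) (fun q hq => by
      obtain ⟨Q, hQ, hQc⟩ := hsurj (q.comap (Ideal.Quotient.mk I)) inferInstance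
      have hJQ : J ≤ Q := by
        rw [Ideal.map_le_iff_le_comap, hQc]
        exact fun r hr => by rw [Ideal.mem_comap, Ideal.Quotient.eq_zero_iff_mem.2 hr]; exact zero_mem _
      haveI := hQ
      refine ⟨Q.map (Ideal.Quotient.mk J), Ideal.map_isPrime_of_surjective Ideal.Quotient.mk_surjective (by rwa [Ideal.mk_ker]), ?_⟩
      refine Ideal.comap_injective_of_surjective (Ideal.Quotient.mk I) Ideal.Quotient.mk_surjective ?_
      rw [← hcc, Ideal.comap_map_of_surjective _ Ideal.Quotient.mk_surjective, ← RingHom.ker_eq_comap_bot, Ideal.mk_ker,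
        sup_of_le_left hJQ, hQc])
      (fun Q hQ hQc => by
        refine IsLocalRing.eq_maximalIdeal ?_
        have h1 := hfib (Q.comap (Ideal.Quotient.mk J)) inferInstance (by rw [hcc, hQc, hmaxA])
        rw [← Ideal.map_comap_of_surjective _ Ideal.Quotient.mk_surjective Q, h1]
        exact (Ideal.map_eq_top_or_isMaximal_of_surjective _ Ideal.Quotient.mk_surjective
          (IsLocalRing.maximalIdeal.isMaximal B)).resolve_left fun h => hQ.ne_top (by
            rw [← Ideal.map_comap_of_surjective _ Ideal.Quotient.mk_surjective Q, h1, h]))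
      hdimB
    refine (ringKrullDim_le_ringKrullDim_quotient_add_spanFinrank I (hI.trans (le_of_eq (IsLocalRing.ringJacobson_eq_maximalIdeal (R := A)).symm))).trans ?_
    have h5 : I.spanFinrank ≤ 1 := by
      refine le_trans (Submodule.spanFinrank_span_le_ncard_of_finite (Set.finite_singleton a)) ?_
      rw [Set.ncard_singleton]
    refine (add_le_add hA' (by exact_mod_cast h5 : (I.spanFinrank : WithBot ℕ∞) ≤ 1)).trans ?_
    exact_mod_cast le_rfl

/-- openness at a maximal point of a fibre bounds the dimension below -/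
theorem dim_base_le [IsLocallyNoetherian Y] (f : X ⟶ Y) [LocallyOfFiniteType f] {z : X}
    (hz : FlatEquidim.IsFibreMax f z) (hopen : EGA43.IsOpenAt f.base z) {n : ℕ} (hn : mapTrdeg f z = n) :
    Order.coheight (f z) ≤ Order.coheight z := by
  haveI : IsLocallyNoetherian X := LocallyOfFiniteType.isLocallyNoetherian f
  obtain ⟨s, hs⟩ := LeadFCat.exists_dim (X.presheaf.stalk z)
  letI : Algebra (Y.presheaf.stalk (f z)) (X.presheaf.stalk z) := (f.stalkMap z).hom.toAlgebra
  have hnat : ∀ Q : Spec (X.presheaf.stalk z),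
      f (X.fromSpecStalk z Q) = Y.fromSpecStalk (f z) (PrimeSpectrum.comap (f.stalkMap z).hom Q) :=
    fun Q => (congr($(Scheme.SpecMap_stalkMap_fromSpecStalk f (x := z)) Q)).symm
  have hA := ringKrullDim_le_of_surjective_comap s (A := Y.presheaf.stalk (f z)) (B := X.presheaf.stalk z)
    (fun q hq => by
      let qp : Spec (Y.presheaf.stalk (f z)) := ⟨q, hq⟩
      have hsp : Y.fromSpecStalk (f z) qp ⤳ f z :=
        (Y.range_fromSpecStalk (x := f z)).le ⟨qp, rfl⟩
      obtain ⟨ξ, hξ, hfξ, -, -⟩ := exists_over_generization f z hz hopen hn hsp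
      obtain ⟨Q, hQ⟩ : ξ ∈ Set.range (X.fromSpecStalk z) := (X.range_fromSpecStalk (x := z)).ge hξ
      refine ⟨Q.asIdeal, inferInstance, ?_⟩
      have h1 := hnat Q
      rw [hQ, hfξ] at h1
      exact congrArg PrimeSpectrum.asIdeal ((Y.fromSpecStalk (f z)).isEmbedding.injective h1).symm)
    (fun Q hQ hQc => by
      let Qp : Spec (X.presheaf.stalk z) := ⟨Q, hQ⟩
      have hsp : X.fromSpecStalk z Qp ⤳ z := (X.range_fromSpecStalk (x := z)).le ⟨Qp, rfl⟩
      have h1 := hnat Qp
      rw [show PrimeSpectrum.comap (f.stalkMap z).hom Qp = IsLocalRing.closedPoint _ from PrimeSpectrum.ext hQc,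
        Scheme.fromSpecStalk_closedPoint] at h1
      have h2 := hz _ hsp h1
      have : Qp = IsLocalRing.closedPoint _ :=
        (X.fromSpecStalk z).isEmbedding.injective (h2.trans Scheme.fromSpecStalk_closedPoint.symm)
      exact congrArg PrimeSpectrum.asIdeal this)
    hs.le
  rw [← hs, ringKrullDim_stalk_eq_coheight, ringKrullDim_stalk_eq_coheight] at hA
  exact WithBot.coe_le_coe.1 hA

/-- In an equidimensional local ring all components have the local dimension. -/
theorem coheight_of_isEquidim {x ξ : X} (hξx : ξ ⤳ x) (hξ : ∀ z : X, z ⤳ ξ → z = ξ)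
    (hX : EGA4.IsEquidim (X.presheaf.stalk x)) {W : Scheme.{u}} (ι : W ⟶ X) [IsPreimmersion ι]
    (hr : Set.range ι = closure {ξ}) {xW : W} (hxW : ι xW = x) :
    Order.coheight xW = Order.coheight x := by
  let g := X.fromSpecStalk x
  obtain ⟨p, hp⟩ : ξ ∈ Set.range g := X.range_fromSpecStalk.ge hξx
  have hpmin : p.asIdeal ∈ minimalPrimes (X.presheaf.stalk x) := by
    refine ⟨⟨p.isPrime, bot_le⟩, fun q hq hle => ?_⟩
    let qp : Spec (X.presheaf.stalk x) := ⟨q, hq.1⟩
    have h1 : g qp ⤳ g p := ((PrimeSpectrum.le_iff_specializes qp p).1 hle).map g.continuous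
    rw [hp] at h1
    have h2 : qp = p := g.isEmbedding.injective ((hξ _ h1).trans hp.symm)
    exact (congrArg PrimeSpectrum.asIdeal h2).ge
  have hdim := hX _ hpmin
  rw [ringKrullDim_stalk_eq_coheight, ringKrullDim_quotient] at hdim
  refine le_antisymm (hxW ▸ coheight_subscheme_le ι xW) ?_
  rw [← WithBot.coe_le_coe, ← hdim]
  refine iSup_le fun l => ?_
  have hmem : ∀ i, g (l i).1 ∈ Set.range ι := fun i => by
    rw [hr, ← specializes_iff_mem_closure, ← hp]
    exact ((PrimeSpectrum.le_iff_specializes p (l i).1).1 (l i).2).map g.continuous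
  choose G hG using hmem
  let l' : LTSeries W := ⟨l.length, fun i => G i.rev, fun i => by
    refine FlatDim.lt_of_specializes_of_ne (ι.isEmbedding.isInducing.specializes_iff.1 ?_) fun h => ?_
    · rw [hG, hG]
      exact ((PrimeSpectrum.le_iff_specializes _ _).1 (l.monotone (Fin.rev_le_rev.2 (Fin.castSucc_le_succ i)))).map g.continuous
    · have h2 := congrArg ι h
      rw [hG, hG] at h2
      exact (l.strictMono (Fin.rev_lt_rev.2 (Fin.castSucc_lt_succ (i := i)))).ne (Subtype.ext (g.isEmbedding.injective h2).symm)⟩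
  have hhead : xW ≤ l'.head := by
    show G (Fin.rev 0) ⤳ xW
    refine ι.isEmbedding.isInducing.specializes_iff.1 ?_
    rw [hG, hxW]
    exact X.range_fromSpecStalk.le ⟨_, rfl⟩
  exact WithBot.coe_le_coe.2 (Order.length_le_coheight (p := l') hhead)

theorem isEquidimAt_of_isOpenAt [IsLocallyNoetherian Y] (f : X ⟶ Y) [LocallyOfFiniteType f] (x : X)
    (hX : EGA4.IsEquidim (X.presheaf.stalk x))
    (h : ∀ z : ↥(f.fiber (f x)), z ⤳ f.asFiber x → (∀ v, v ⤳ z → v = z) → EGA43.IsOpenAt f.base (f.fiberι (f x) z)) :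
    EGA43.IsEquidimAt f x := by
  haveI : IsLocallyNoetherian X := LocallyOfFiniteType.isLocallyNoetherian f
  obtain ⟨w, n, hwx, hwmax, hn, hd⟩ := exists_fibreMax' f x
  obtain ⟨t, ht, -⟩ := height_asFiber f x
  have hfw := FlatEquidim.fiberι_apply_eq f (f x) w
  obtain ⟨D, hD⟩ := LeadFCat.exists_dim (X.presheaf.stalk x)
  obtain ⟨d, hd'⟩ := LeadFCat.exists_dim (Y.presheaf.stalk (f x))
  rw [ringKrullDim_stalk_eq_coheight] at hD hd'
  have hD' : Order.coheight x = (D : ℕ∞) := WithBot.coe_injective hD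
  have hdY : Order.coheight (f x) = (d : ℕ∞) := WithBot.coe_injective hd'
  -- lower bound
  have hlow : d + n ≤ D + t := by
    obtain ⟨c, hc, hle⟩ := coheight_add_trdeg f hwx ht hn
    have h1 := dim_base_le f (fun z hz hfz => FlatDim.eq_fiberι_of_isMax f hwmax hz (hfz.trans hfw)) (h w hwx hwmax) hn
    rw [hfw, hdY] at h1
    have h2 : (c : ℕ∞) + d ≤ D := hD' ▸ (add_le_add le_rfl h1).trans hle
    have : c + d ≤ D := by exact_mod_cast h2
    omega
  -- along a component
  have hup : ∀ ξ : X, ξ ⤳ x → (∀ z : X, z ⤳ ξ → z = ξ) →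
      (∀ v : Y, v ⤳ f ξ → v = f ξ) ∧ mapTrdeg f ξ = n := by
    intro ξ hξx hξ
    let Wc : Closeds X := ⟨closure {ξ}, isClosed_closure⟩
    obtain ⟨hWirr, hWg, hWr⟩ := component_subscheme ξ Wc rfl
    let Yc : Closeds Y := ⟨closure {f ξ}, isClosed_closure⟩
    obtain ⟨hYirr, hYg, hYr⟩ := component_subscheme (f ξ) Yc rfl
    let ιW := (Scheme.IdealSheafData.vanishingIdeal Wc).subschemeι
    let ιY := (Scheme.IdealSheafData.vanishingIdeal Yc).subschemeι
    haveI : IsLocallyNoetherian (Scheme.IdealSheafData.vanishingIdeal Yc).subscheme :=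
      LocallyOfFiniteType.isLocallyNoetherian ιY
    have hrange : ∀ z, (ιW ≫ f) z ∈ Yc := fun z =>
      specializes_iff_mem_closure.1 ((specializes_iff_mem_closure.2 (hWr.le ⟨z, rfl⟩)).map f.continuous)
    let l := IsClosedImmersion.lift ιY (ιW ≫ f) (by
      rw [Scheme.IdealSheafData.ker_subschemeι]; exact vanishingIdeal_le_ker _ _ hrange)
    have hl : l ≫ ιY = ιW ≫ f := IsClosedImmersion.lift_fac _ _ _
    haveI : LocallyOfFiniteType (l ≫ ιY) := by rw [hl]; infer_instance
    haveI : LocallyOfFiniteType l := locallyOfFiniteType_of_comp l ιY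
    have hlg : l (genericPoint _) = genericPoint _ := ιY.isEmbedding.injective (by
      rw [← Scheme.Hom.comp_apply, hl, Scheme.Hom.comp_apply, hWg, hYg])
    obtain ⟨xW, hxW⟩ : x ∈ Set.range ιW := by rw [hWr]; exact specializes_iff_mem_closure.1 hξx
    have hlx : ιY (l xW) = f x := by rw [← Scheme.Hom.comp_apply, hl, Scheme.Hom.comp_apply, hxW]
    obtain ⟨a, a', t', e, ha, ha', ht', he, hsum⟩ := dim_stalk_add_trdeg_le l hlg xW
    have htr : ∀ z, mapTrdeg f (ιW z) = mapTrdeg l z := fun z => by
      have h1 : mapTrdeg (l ≫ ιY) z = mapTrdeg (ιW ≫ f) z := by rw [hl]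
      rw [FlatEquidim.mapTrdeg_comp, FlatEquidim.mapTrdeg_comp, mapTrdeg_eq_zero ιY, mapTrdeg_eq_zero ιW,
        zero_add, add_zero] at h1
      exact h1.symm
    rw [← htr, hxW, ht] at ht'
    rw [← htr, hWg] at he
    obtain rfl : t = t' := Nat.cast_injective (R := Cardinal.{u}) ht'
    rw [ringKrullDim_stalk_eq_coheight] at ha ha'
    have haD : a = D := by
      have := coheight_of_isEquidim hξx hξ hX ιW hWr hxW
      rw [hD', show Order.coheight xW = (a : ℕ∞) from WithBot.coe_injective ha] at this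
      exact_mod_cast this
    have hen : e ≤ n := le_of_specializes f hξx (fun z hz _ => hξ z hz) he hd.le
    have hY' : Order.coheight (l xW) = (a' : ℕ∞) := WithBot.coe_injective ha'
    have ha'd : a' ≤ d := by
      have := coheight_subscheme_le ιY (l xW)
      rw [hlx, hdY, hY'] at this
      exact_mod_cast this
    refine ⟨fun v hv => ?_, by rw [he, show e = n by omega]⟩
    by_contra hne
    obtain ⟨s, hs1, hs2⟩ := Order.exists_series_of_le_coheight (l xW) hY'.ge
    let s0 := s.map _ (strictMono_immersion ιY)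
    have hlt : s0.last < v := by
      have h1 : f ξ ⤳ s0.last := by
        rw [LTSeries.last_map, ← hYg]; exact (genericPoint_specializes s.last).map ιY.continuous
      exact lt_of_le_of_lt (show s0.last ≤ f ξ from h1) (FlatDim.lt_of_specializes_of_ne hv (Ne.symm hne))
    have h7 := Order.length_le_coheight_head (p := s0.snoc v hlt)
    rw [RelSeries.head_snoc, RelSeries.snoc_length, LTSeries.head_map, hs1, hlx, hdY] at h7
    change ((s.length + 1 : ℕ) : ℕ∞) ≤ (d : ℕ∞) at h7
    have : s.length + 1 ≤ d := by exact_mod_cast h7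
    omega
  -- a neighbourhood
  let U0 : X.Opens := ⟨_, FibreDimChart.isOpen_fibreDimAt_le f n⟩
  obtain ⟨U, hxU, hU0, hUmax⟩ := exists_nbhd_max_specializes (x := x) (U := U0) hd.le
  refine isEquidimAt_of_data f x n U hxU (fun ξ hξU hξ => ⟨(hup ξ (hUmax ξ hξU hξ) hξ).1, (hUmax ξ hξU hξ).map f.continuous⟩)
    fun y hy hmax => ?_
  obtain ⟨m, hm, -⟩ := height_asFiber f y
  obtain ⟨ξ, hξy, hξ⟩ := FlatMorLib.exists_maximal_generization y
  have hξn := (hup ξ (hUmax ξ (hξy.mem_open U.isOpen hy) hξ) hξ).2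
  have h1 : n ≤ m := le_of_specializes f hξy (fun z hz _ => hξ z hz) hξn (fibreDimAt_of_fibreMax f hmax hm).le
  have h2 : m ≤ n := by
    have := (le_fibreDimAt f hm).trans (hU0 hy)
    exact_mod_cast this
  rw [hm, le_antisymm h2 h1]

end Groth.Agent.EquidimChart
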