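import Groth.Agent.EquidimChart.ChainIneq
import Groth.Agent.EquidimChart.DimEq

/-!
# The dimension formula over a universally catenary local ring, along chains
-/

set_option autoImplicit false
set_option backward.isDefEq.respectTransparency.types false
set_option linter.style.haveILetI false
universe u

open AlgebraicGeometry CategoryTheory TopologicalSpace Topology
open Groth.Agent.DimTheory

namespace Groth.Agent.EquidimChart

/-- a chain of primes between `p₀` and `p` bounds the dimension of `R_p / p₀` -/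
theorem length_le_dim {R : Type u} [CommRing R] (p p0 : Ideal R) [p.IsPrime] {m : ℕ}
    (q : Fin (m + 1) → Ideal R) (hq : ∀ i, (q i).IsPrime) (hqp : ∀ i, q i ≤ p) (h0 : ∀ i, p0 ≤ q i)
    (hmono : StrictMono q) :
    (m : WithBot ℕ∞) ≤ ringKrullDim (Localization.AtPrime p ⧸ p0.map (algebraMap R (Localization.AtPrime p))) := by
  let I := p0.map (algebraMap R (Localization.AtPrime p))
  have hd : ∀ i, Disjoint (p.primeCompl : Set R) (q i : Set R) := fun i =>
    Set.disjoint_left.2 fun a ha ha' => ha (hqp i ha')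
  have hP : ∀ i, ((q i).map (algebraMap R (Localization.AtPrime p))).IsPrime := fun i =>
    IsLocalization.isPrime_of_isPrime_disjoint p.primeCompl _ (q i) (hq i) (hd i)
  have hc : ∀ i, ((q i).map (algebraMap R (Localization.AtPrime p))).comap (algebraMap R (Localization.AtPrime p)) = q i :=
    fun i => IsLocalization.under_map_of_isPrime_disjoint p.primeCompl _ (hq i) (hd i)
  have hP' : ∀ i, (((q i).map (algebraMap R (Localization.AtPrime p))).map (Ideal.Quotient.mk I)).IsPrime := fun i => by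
    haveI := hP i
    exact Ideal.map_isPrime_of_surjective Ideal.Quotient.mk_surjective (by rw [Ideal.mk_ker]; exact Ideal.map_mono (h0 i))
  let F : Fin (m + 1) → PrimeSpectrum (Localization.AtPrime p ⧸ I) := fun i => ⟨_, hP' i⟩
  have hback : ∀ i, (F i).asIdeal.comap (Ideal.Quotient.mk I) = (q i).map (algebraMap R (Localization.AtPrime p)) :=
    fun i => by
      rw [Ideal.comap_map_of_surjective _ Ideal.Quotient.mk_surjective, ← RingHom.ker_eq_comap_bot, Ideal.mk_ker,
        sup_of_le_left (Ideal.map_mono (h0 i))]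
  have hF : StrictMono F := fun i j hij => by
    refine lt_of_le_of_ne (Ideal.map_mono (Ideal.map_mono (hmono hij).le)) fun heq => (hmono hij).ne ?_
    rw [← hc i, ← hc j, ← hback i, ← hback j, heq]
  exact Order.LTSeries.length_le_krullDim (LTSeries.mk m F hF)

variable {X Y : Scheme.{u}}

set_option maxHeartbeats 1000000 in
/-- the lower bound in the dimension formula -/
theorem chain_formula [IsLocallyNoetherian Y] (f : X ⟶ Y) [LocallyOfFiniteType f] {z ξ : X} (hξz : ξ ⤳ z)
    (hUC : CAlg.IsUniversallyCatenary (Y.presheaf.stalk (f z))) {n e : ℕ}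
    (hn : mapTrdeg f z = n) (he : mapTrdeg f ξ = e) (r : LTSeries Y) (hr1 : r.head = f z)
    (hr2 : f ξ ⤳ r.last) : ((r.length + e : ℕ) : ℕ∞) ≤ Order.coheight z + n := by
  obtain ⟨V, hV, hzV, -⟩ := exists_isAffineOpen_mem_and_subset (X := Y) (x := f z) (U := ⊤) trivial
  obtain ⟨U1, hU1, hzU1, hU1'⟩ := exists_isAffineOpen_mem_and_subset (X := X) (x := z) (U := f ⁻¹ᵁ V) hzV
  have hle : U1 ≤ f ⁻¹ᵁ V := fun a ha => hU1' ha
  have hξU : ξ ∈ U1 := hξz.mem_open U1.isOpen hzU1
  letI : Algebra Γ(Y, V) Γ(X, U1) := (f.appLE V U1 hle).hom.toAlgebra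
  haveI : Algebra.FiniteType Γ(Y, V) Γ(X, U1) := f.finiteType_appLE hV hU1 hle
  let P := (hU1.primeIdealOf ⟨z, hzU1⟩).asIdeal
  let p := (hV.primeIdealOf ⟨f z, hle hzU1⟩).asIdeal
  haveI : P.LiesOver p := ⟨(congrArg PrimeSpectrum.asIdeal (IsAffineOpen.comap_primeIdealOf_appLE (f := f) V hV U1 hU1 hle hzU1)).symm⟩
  let P0 := (hU1.primeIdealOf ⟨ξ, hξU⟩).asIdeal
  let p0 := (hV.primeIdealOf ⟨f ξ, hle hξU⟩).asIdeal
  haveI : P0.LiesOver p0 := ⟨(congrArg PrimeSpectrum.asIdeal (IsAffineOpen.comap_primeIdealOf_appLE (f := f) V hV U1 hU1 hle hξU)).symm⟩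
  letI := TopCat.Presheaf.algebra_section_stalk Y.presheaf (⟨f z, hle hzU1⟩ : V)
  haveI : IsLocalization.AtPrime (Y.presheaf.stalk (f z)) p := hV.isLocalization_stalk ⟨f z, hle hzU1⟩
  let ε := (IsLocalization.algEquiv p.primeCompl (Localization.AtPrime p) (Y.presheaf.stalk (f z))).symm.toRingEquiv
  have hUC' : CAlg.IsUniversallyCatenary (Localization.AtPrime p) :=
    Groth.Agent.LeadExc.isUniversallyCatenary_of_surjective ε.toRingHom ε.surjective hUC
  have htr : ∀ (w : X) (hw : w ∈ U1) (q : Ideal Γ(Y, V)) [q.IsPrime] [(hU1.primeIdealOf ⟨w, hw⟩).asIdeal.LiesOver q],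
      mapTrdeg f w = Algebra.trdeg (Γ(Y, V) ⧸ q) (Γ(X, U1) ⧸ (hU1.primeIdealOf ⟨w, hw⟩).asIdeal) := by
    intro w hw q _ _
    letI : Algebra Γ(Y, V) (Y.residueField (f w)) := (Y.presheaf.germ V (f w) (hle hw) ≫ Y.residue (f w)).hom.toAlgebra
    letI : Algebra Γ(X, U1) (X.residueField w) := (X.presheaf.germ U1 w hw ≫ X.residue w).hom.toAlgebra
    letI : Algebra (Y.residueField (f w)) (X.residueField w) := (f.residueFieldMap w).hom.toAlgebra
    exact trdeg_quot (K := Y.residueField (f w)) (L := X.residueField w)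
      (Groth.Agent.FlatEquidim.evaluation_comp f hle hw) (Groth.Agent.DimTheory.exists_eq_div hV (hle hw))
      (Groth.Agent.DimTheory.exists_eq_div hU1 hw) q _ (Groth.Agent.DimTheory.ker_evaluation hU1 hw)
  rw [htr z hzU1 p] at hn
  rw [htr ξ hξU p0] at he
  obtain ⟨h, d, e1, e2, e3⟩ := dim_localization_quotient' p P hUC' P0 p0
    ((FlatEquidim.specializes_iff_le hU1 hzU1 hξU).1 hξz) e n he hn
  -- the dimension upstairs
  have hup : (h : ℕ∞) ≤ Order.coheight z := by
    letI := TopCat.Presheaf.algebra_section_stalk X.presheaf (⟨z, hzU1⟩ : U1)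
    haveI : IsLocalization.AtPrime (X.presheaf.stalk z) P := hU1.isLocalization_stalk ⟨z, hzU1⟩
    have h1 := ringKrullDim_quotient_le (P0.map (algebraMap Γ(X, U1) (Localization.AtPrime P)))
    rw [e1, ringKrullDim_eq_of_ringEquiv
      (IsLocalization.algEquiv P.primeCompl (Localization.AtPrime P) (X.presheaf.stalk z)).toRingEquiv,
      ringKrullDim_stalk_eq_coheight] at h1
    exact WithBot.coe_le_coe.1 h1
  -- the dimension downstairs
  have hdown : r.length ≤ d := by
    have hgen : ∀ i, r i ⤳ f z := fun i => hr1 ▸ (show r i ⤳ r.head from r.monotone (Fin.zero_le i))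
    have hV' : ∀ i, r i ∈ V := fun i => (hgen i).mem_open V.isOpen (hle hzU1)
    have hlast : ∀ i, f ξ ⤳ r i := fun i => hr2.trans (show r.last ⤳ r i from r.monotone (Fin.le_last i))
    let q : Fin (r.length + 1) → Ideal Γ(Y, V) := fun i => (hV.primeIdealOf ⟨r i.rev, hV' i.rev⟩).asIdeal
    have hm : StrictMono q := fun i j hij => by
      have h1 : r j.rev < r i.rev := r.strictMono (Fin.rev_lt_rev.2 hij)
      refine lt_of_le_of_ne ((FlatEquidim.specializes_iff_le hV (hV' _) (hV' _)).1 h1.le) fun h2 => h1.ne' ?_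
      exact (hV.fromSpec_primeIdealOf ⟨_, hV' i.rev⟩).symm.trans
        ((congrArg hV.fromSpec (PrimeSpectrum.ext h2)).trans (hV.fromSpec_primeIdealOf ⟨_, hV' j.rev⟩))
    have := length_le_dim p p0 q (fun i => inferInstance)
      (fun i => (FlatEquidim.specializes_iff_le hV (hle hzU1) (hV' _)).1 (hgen _))
      (fun i => (FlatEquidim.specializes_iff_le hV (hV' _) (hle hξU)).1 (hlast _)) hm
    rw [e2] at this
    exact_mod_cast this
  calc ((r.length + e : ℕ) : ℕ∞) ≤ ((h + n : ℕ) : ℕ∞) := by exact_mod_cast (show r.length + e ≤ h + n by omega)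
    _ ≤ Order.coheight z + n := by rw [Nat.cast_add]; exact add_le_add hup le_rfl

end Groth.Agent.EquidimChart
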